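import Cfsg.Agent.Lib.LocalEven.Isolated
import Cfsg.Agent.Lib.Base.Rank
import Cfsg.Agent.Lib.Transfer.Fusion

/-!
An isolated element of order `p` in a perfect group lies in the derived group of its Sylow
subgroup, and in no image of a power homomorphism into the centre of that Sylow subgroup.
-/

set_option autoImplicit false
set_option linter.unusedSectionVars false
set_option linter.style.haveILetI false

namespace CfsgLib.LocalEven.IsoSylow

open Cfsg Subgroup
open scoped commutatorElement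

variable {L : Type*} [Group L] [Finite L] {p : ℕ} [hp : Fact p.Prime]

/-- The ambient data: a perfect group, an isolated element of order `p`, a Sylow subgroup at it. -/
structure Setting (P : Sylow p L) (x : L) : Prop where
  ord : orderOf x = p
  iso : IsIsolated x
  mem : x ∈ (P : Subgroup L)
  perfect : commutator L = ⊤

namespace Setting

variable {P : Sylow p L} {x : L} (S : Setting P x)
include S

/-- `x` as an element of `P`. -/
theorem mem_center : (⟨x, S.mem⟩ : ↥(P : Subgroup L)) ∈ center ↥(P : Subgroup L) :=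
  Subgroup.mem_center_iff.2 fun g => Subtype.ext
    (Subgroup.mem_centralizer_singleton_iff.1 (Iso.le_centralizer S.iso P.2 S.mem g.2))

theorem pow_eq : x ^ p = 1 := by rw [← S.ord, pow_orderOf_eq_one]

theorem ne_one : x ≠ 1 := fun h => hp.out.ne_one (by rw [← S.ord, h, orderOf_one])

theorem conj_eq (g : L) (h : g * x * g⁻¹ ∈ (P : Subgroup L)) : g * x * g⁻¹ = x := by
  have := Iso.eq_of_mem S.iso P.2 g 1 h (by simpa using S.mem)
  simpa using this

theorem conj_pow_eq (g : L) (k : ℕ) (h : g * x ^ k * g⁻¹ ∈ (P : Subgroup L)) :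
    g * x ^ k * g⁻¹ = x ^ k := by
  by_cases hk : p ∣ k
  · obtain ⟨j, rfl⟩ := hk
    simp [pow_mul, S.pow_eq]
  · have hco : k.Coprime (orderOf x) := by
      rw [S.ord]; exact ((hp.out.coprime_iff_not_dvd).2 hk).symm
    obtain ⟨m, hm⟩ := exists_pow_eq_self_of_coprime hco
    have h2 : g * x * g⁻¹ ∈ (P : Subgroup L) := by
      rw [← hm, ← conj_pow]; exact pow_mem h m
    rw [← conj_pow, S.conj_eq g h2]

/-- An isolated element of a perfect group lies in the derived group of its Sylow subgroup. -/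
theorem mem_commutator : (⟨x, S.mem⟩ : ↥(P : Subgroup L)) ∈ commutator ↥(P : Subgroup L) := by
  have key : ∀ (k : ℕ) (g₀ : L), g₀⁻¹ * x ^ k * g₀ ∈ (P : Subgroup L) →
      g₀⁻¹ * x ^ k * g₀ = x ^ k := fun k g₀ h => by
    simpa using S.conj_pow_eq g₀⁻¹ k (by simpa using h)
  have h1 := MonoidHom.transfer_eq_pow (H := (P : Subgroup L))
    (ϕ := (Abelianization.of : ↥(P : Subgroup L) →* _)) x key
  have h2 : MonoidHom.transfer (H := (P : Subgroup L))
      (Abelianization.of : ↥(P : Subgroup L) →* _) x = 1 :=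
    MonoidHom.mem_ker.1 (Abelianization.commutator_subset_ker _
      (S.perfect ▸ Subgroup.mem_top x))
  rw [h2] at h1
  have h3 : (⟨x, S.mem⟩ : ↥(P : Subgroup L)) ^ (P : Subgroup L).index ∈
      commutator ↥(P : Subgroup L) := by
    rw [← Abelianization.ker_of, MonoidHom.mem_ker, h1]
    exact congrArg _ (Subtype.ext rfl)
  have hco : ((P : Subgroup L).index).Coprime (orderOf (⟨x, S.mem⟩ : ↥(P : Subgroup L))) := by
    rw [Subgroup.orderOf_mk, S.ord]
    exact (hp.out.coprime_iff_not_dvd.2 P.not_dvd_index).symm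
  obtain ⟨m, hm⟩ := exists_pow_eq_self_of_coprime hco
  rw [← hm]
  exact pow_mem h3 m

/-- A homomorphism killing the moves of fusion is trivial. -/
theorem hom_eq_one {A : Type*} [CommGroup A] (φ : ↥(P : Subgroup L) →* A)
    (h : ∀ (a b : ↥(P : Subgroup L)) (g : L), g * (a : L) * g⁻¹ = b → φ b = φ a)
    (a : ↥(P : Subgroup L)) : φ a = 1 := by
  have hle : (P : Subgroup L).focalSubgroup ≤ φ.ker.map (P : Subgroup L).subtype := by
    rw [Subgroup.focalSubgroup_def, Subgroup.closure_le]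
    rintro z ⟨hz, c, hc, u, rfl⟩
    have hb : u * c⁻¹ * u⁻¹ ∈ (P : Subgroup L) := by
      have := mul_mem (inv_mem hc) hz
      rw [commutatorElement_def] at this
      simpa [mul_assoc] using this
    refine ⟨⟨_, hz⟩, ?_, rfl⟩
    rw [SetLike.mem_coe, MonoidHom.mem_ker,
      show (⟨⁅c, u⁆, hz⟩ : ↥(P : Subgroup L)) = ⟨c, hc⟩ * ⟨_, hb⟩ from
        Subtype.ext (by simp [commutatorElement_def, mul_assoc]),
      map_mul, h ⟨c⁻¹, inv_mem hc⟩ ⟨_, hb⟩ u rfl,
      show (⟨c⁻¹, inv_mem hc⟩ : ↥(P : Subgroup L)) = ⟨c, hc⟩⁻¹ from rfl, map_inv, mul_inv_cancel]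
  have hfoc : (P : Subgroup L).focalSubgroup = (P : Subgroup L) := by
    rw [← commutator_inf_eq_focalSubgroup, S.perfect, top_inf_eq]
  obtain ⟨c, hc, hca⟩ := hle (hfoc.ge a.2)
  rw [Subgroup.coe_subtype] at hca
  rw [← Subtype.ext hca]; exact hc

/-- If `g ↦ g ^ q` maps `P` homomorphically into `Z(P)` then `x` is no `q`-th power in `P`. -/
theorem pow_ne (q : ℕ) (hz : ∀ a : ↥(P : Subgroup L), a ^ q ∈ center ↥(P : Subgroup L))
    (hmul : ∀ a b : ↥(P : Subgroup L), (a * b) ^ q = a ^ q * b ^ q)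
    (a : ↥(P : Subgroup L)) : (a : L) ^ q ≠ x := by
  classical
  intro hax
  set N := normalizer ((P : Subgroup L) : Set L) with hN
  set Z : Subgroup L := (center ↥(P : Subgroup L)).map (P : Subgroup L).subtype with hZ
  haveI : IsMulCommutative Z := by rw [hZ]; infer_instance
  letI : CommGroup Z := { (inferInstance : Group Z) with
    mul_comm := IsMulCommutative.is_comm.comm }
  have hconjZ : ∀ n : N, ∀ z ∈ Z, (n : L)⁻¹ * z * n ∈ Z := by
    rintro ⟨n, hn⟩ _ ⟨z, hz, rfl⟩
    have hmem : n⁻¹ * (z : L) * n ∈ (P : Subgroup L) :=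
      (Subgroup.mem_normalizer_iff''.1 hn _).1 z.2
    refine ⟨⟨_, hmem⟩, Subgroup.mem_center_iff.2 fun w => Subtype.ext ?_, rfl⟩
    have hw : n * (w : L) * n⁻¹ ∈ (P : Subgroup L) := (Subgroup.mem_normalizer_iff.1 hn _).1 w.2
    have h1 : (n * (w : L) * n⁻¹) * z = z * (n * (w : L) * n⁻¹) :=
      congrArg Subtype.val (Subgroup.mem_center_iff.1 hz ⟨_, hw⟩)
    show (w : L) * (n⁻¹ * z * n) = n⁻¹ * z * n * w
    calc (w : L) * (n⁻¹ * z * n) = n⁻¹ * ((n * (w : L) * n⁻¹) * z) * n := by group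
      _ = _ := by rw [h1]; group
  have hcomm : ∀ u ∈ (P : Subgroup L), ∀ z ∈ Z, u * z = z * u := by
    rintro u hu _ ⟨z, hz, rfl⟩
    exact congrArg Subtype.val (Subgroup.mem_center_iff.1 hz ⟨u, hu⟩)
  -- the average over `N / P`
  let P' : Subgroup N := (P : Subgroup L).subgroupOf N
  haveI : Fintype (N ⧸ P') := Fintype.ofFinite _
  let cj : N → Z →* Z := fun n => MonoidHom.mk' (fun z => ⟨_, hconjZ n z z.2⟩) fun z w =>
    Subtype.ext (show (n : L)⁻¹ * ((z : L) * w) * n = (n : L)⁻¹ * z * n * ((n : L)⁻¹ * w * n) by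
      group)
  let avg : Z →* Z := ∏ c : N ⧸ P', cj c.out
  have havg : ∀ z : Z, avg z = ∏ c : N ⧸ P', cj c.out z := fun z => by
    simp [avg, MonoidHom.finsetProd_apply]
  have hinv : ∀ (n : N) (z w : Z), (n : L) * (z : L) * (n : L)⁻¹ = w → avg w = avg z := by
    intro n z w hzw
    rw [havg, havg]
    refine (Fintype.prod_bijective (fun c : N ⧸ P' => n • c) (MulAction.bijective n)
      (fun c => cj c.out z) (fun c => cj c.out w) fun c => Subtype.ext ?_).symm
    have hk : ((n * c.out)⁻¹ * (n • c).out : N) ∈ P' := by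
      refine QuotientGroup.eq.1 ?_
      rw [QuotientGroup.out_eq', ← smul_eq_mul, ← MulAction.Quotient.smul_mk,
        QuotientGroup.out_eq']
    set k : N := (n * c.out)⁻¹ * (n • c).out with hk'
    have hout : (n • c).out = n * c.out * k := by rw [hk']; group
    show (c.out : L)⁻¹ * (z : L) * c.out = ((n • c).out : L)⁻¹ * w * (n • c).out
    have h1 : (k : L)⁻¹ * ((c.out : L)⁻¹ * (z : L) * c.out) * k = (c.out : L)⁻¹ * z * c.out := by
      rw [mul_assoc, ← hcomm _ (mem_subgroupOf.1 hk) _ (hconjZ c.out z z.2), ← mul_assoc,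
        inv_mul_cancel, one_mul]
    rw [hout, ← h1, ← hzw]
    simp only [Subgroup.coe_mul]
    group
  let θ : ↥(P : Subgroup L) →* Z := MonoidHom.mk'
    (fun u => ⟨((u ^ q : ↥(P : Subgroup L)) : L), _, hz u, rfl⟩) fun u v => Subtype.ext (by
      show (((u * v) ^ q : ↥(P : Subgroup L)) : L) = _
      rw [hmul]; rfl)
  have hθ : ∀ (u v : ↥(P : Subgroup L)) (g : L), g * (u : L) * g⁻¹ = v →
      (avg.comp θ) v = (avg.comp θ) u := by
    intro u v g huv
    have hval : ∀ u : ↥(P : Subgroup L), ((θ u : Z) : L) = (u : L) ^ q := fun u => rfl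
    have hcent : ∀ z ∈ Z, z ∈ centralizer ((P : Subgroup L) : Set L) := fun z hz =>
      Subgroup.mem_centralizer_iff.2 fun w hw => hcomm w hw z hz
    have hgu : g * (θ u : L) * g⁻¹ = (θ v : L) := by rw [hval, hval, ← conj_pow, huv]
    obtain ⟨n, hn, hn'⟩ := P.conj_eq_normalizer_conj_of_mem_centralizer (θ u : L) g⁻¹
      (hcent _ (θ u).2) (by rw [inv_inv, hgu]; exact hcent _ (θ v).2)
    rw [inv_inv, hgu] at hn'
    exact hinv ⟨n⁻¹, inv_mem hn⟩ (θ u) (θ v) (by rw [hn']; simp)
  have h1 : avg (θ a) = 1 := S.hom_eq_one (avg.comp θ) hθ a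
  have h2 : ∀ c : N ⧸ P', cj c.out (θ a) = θ a := fun c => Subtype.ext (by
    show (c.out : L)⁻¹ * (a : L) ^ q * c.out = (a : L) ^ q
    rw [hax]
    simpa using S.conj_eq (c.out : L)⁻¹
      (by simpa using (Subgroup.mem_normalizer_iff''.1 c.out.2 _).1 S.mem))
  rw [havg, Finset.prod_congr rfl fun c _ => h2 c, Finset.prod_const, Finset.card_univ,
    ← Nat.card_eq_fintype_card] at h1
  have h3 : x ^ Nat.card (N ⧸ P') = 1 := by
    have e := congrArg Subtype.val h1
    rw [Subgroup.coe_pow, show ((θ a : Z) : L) = x from hax] at e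
    exact e
  have h4 := orderOf_dvd_of_pow_eq_one h3
  rw [S.ord] at h4
  refine P.not_dvd_index (h4.trans ?_)
  rw [← Subgroup.index, show P'.index = (P : Subgroup L).relIndex N from rfl]
  exact Subgroup.relIndex_dvd_index_of_le le_normalizer

/-- With cyclic centre, a power homomorphism into the centre is trivial. -/
theorem pow_eq_one_of_hom (hcyc : IsCyclic (center ↥(P : Subgroup L))) (q : ℕ)
    (hz : ∀ a : ↥(P : Subgroup L), a ^ q ∈ center ↥(P : Subgroup L))
    (hmul : ∀ a b : ↥(P : Subgroup L), (a * b) ^ q = a ^ q * b ^ q)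
    (a : ↥(P : Subgroup L)) : a ^ q = 1 := by
  classical
  by_contra hne
  obtain ⟨m, hm⟩ := IsPGroup.iff_orderOf.1 P.2 (a ^ q)
  obtain ⟨m, rfl⟩ : ∃ k, m = k + 1 := Nat.exists_eq_add_one_of_ne_zero
    fun h => hne (orderOf_eq_one_iff.1 (by rw [hm, h, pow_zero]))
  set w := (a ^ q) ^ p ^ m with hw
  have hwo : orderOf w = p := by
    rw [hw, orderOf_pow' _ (pow_pos hp.out.pos m).ne', hm, Nat.gcd_eq_right ⟨p, (pow_succ p m)⟩,
      pow_succ, Nat.mul_div_cancel_left _ (pow_pos hp.out.pos m)]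
  haveI := hcyc
  set xc : center ↥(P : Subgroup L) := ⟨⟨x, S.mem⟩, S.mem_center⟩
  set wc : center ↥(P : Subgroup L) := ⟨w, pow_mem (hz a) _⟩
  have hx' : orderOf xc = p := by
    rw [← Subgroup.orderOf_coe, ← Subgroup.orderOf_coe]; exact S.ord
  have hw' : orderOf wc = p := by rw [← Subgroup.orderOf_coe]; exact hwo
  have hxmem : xc ∈ Submonoid.powers wc := by
    refine mem_powers_iff_mem_zpowers.2 ?_
    letI : Fintype (center ↥(P : Subgroup L)) := Fintype.ofFinite _
    have hsub : (Finset.univ.filter (· ∈ zpowers wc)) ⊆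
        Finset.univ.filter (fun u : center ↥(P : Subgroup L) => u ^ p = 1) := by
      intro u hu
      simp only [Finset.mem_filter, Finset.mem_univ, true_and] at hu ⊢
      obtain ⟨i, rfl⟩ := hu
      show (wc ^ i) ^ p = 1
      rw [← zpow_natCast, ← zpow_mul, mul_comm, zpow_mul, zpow_natCast,
        orderOf_dvd_iff_pow_eq_one.1 (dvd_of_eq hw'), one_zpow]
    have hcard : (Finset.univ.filter (· ∈ zpowers wc)).card = p := by
      rw [← Fintype.card_subtype, ← Nat.card_eq_fintype_card]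
      exact (Nat.card_zpowers wc).trans hw'
    have heq := Finset.eq_of_subset_of_card_le hsub
      ((IsCyclic.card_pow_eq_one_le hp.out.pos).trans hcard.ge)
    have hmem : xc ∈ Finset.univ.filter (fun u : center ↥(P : Subgroup L) => u ^ p = 1) := by
      simp only [Finset.mem_filter, Finset.mem_univ, true_and]
      exact orderOf_dvd_iff_pow_eq_one.1 (dvd_of_eq hx')
    rw [← heq] at hmem
    exact (Finset.mem_filter.1 hmem).2
  obtain ⟨j, hj⟩ := hxmem
  have hj' : w ^ j = (⟨x, S.mem⟩ : ↥(P : Subgroup L)) := congrArg Subtype.val hj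
  refine S.pow_ne q hz hmul (a ^ (p ^ m * j)) ?_
  have e : ((w ^ j : ↥(P : Subgroup L)) : L) = x := congrArg Subtype.val hj'
  rw [hw] at e
  push_cast at e ⊢
  rw [← e, ← pow_mul, ← pow_mul, ← pow_mul]
  congr 1
  ring

end Setting

end CfsgLib.LocalEven.IsoSylow
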