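import Cfsg.Agent.Lib.LocalEven.IsoSylow.Powers
import Cfsg.Agent.Lib.Small.JankoTwoThree
import Cfsg.Agent.Lib.Coprime.Basic

/-!
Blackburn's families as the Sylow subgroup at an isolated element.
-/

set_option autoImplicit false
set_option linter.unusedSectionVars false
set_option linter.style.haveILetI false

namespace CfsgLib.LocalEven.IsoSylow

open Cfsg Subgroup
open scoped commutatorElement

variable {L : Type*} [Group L] [Finite L] {p : ℕ} [hp : Fact p.Prime]

namespace Setting

variable {P : Sylow p L} {x : L} (S : Setting P x)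
include S

/-- The group is nonabelian. -/
theorem exists_not_commute : ∃ a b : ↥(P : Subgroup L), a * b ≠ b * a := by
  by_contra h
  push Not at h
  have hbot : commutator ↥(P : Subgroup L) = ⊥ := by
    rw [_root_.commutator_def, Subgroup.commutator_eq_bot_iff_le_centralizer]
    exact fun a _ => Subgroup.mem_centralizer_iff.2 fun b _ => h b a
  have h1 := S.mem_commutator
  rw [hbot, Subgroup.mem_bot] at h1
  exact S.ne_one (congrArg Subtype.val h1)

/-- The Sylow subgroup is not metacyclic. -/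
theorem not_isMetacyclic (hp2 : p ≠ 2) : ¬ IsMetacyclic ↥(P : Subgroup L) := by
  intro hm
  obtain ⟨a, b, n, u, v, r, M⟩ := CfsgLib.PGroups.exists_metaPres hp2 P.2 hm
  obtain ⟨hc, hmul⟩ := metacyclic_pow_hom M
  haveI hnor : (zpowers u).Normal := ⟨fun w hw g => by
    obtain ⟨k, rfl⟩ := hw
    obtain ⟨i, j, rfl⟩ := M.mem g
    have h := M.swap j k
    rw [show u ^ i * v ^ j * u ^ k * (u ^ i * v ^ j)⁻¹ =
      u ^ i * (v ^ j * u ^ k) * (v ^ j)⁻¹ * (u ^ i)⁻¹ by group, h]
    rw [← mul_assoc, mul_inv_cancel_right]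
    exact mul_mem (mul_mem (zpow_mem_zpowers u i) (zpow_mem_zpowers u _))
      (inv_mem (zpow_mem_zpowers u i))⟩
  have hder : commutator ↥(P : Subgroup L) ≤ zpowers u := by
    rw [_root_.commutator_def, commutator_le]
    intro g _ h _
    obtain ⟨i, j, rfl⟩ := M.mem g
    obtain ⟨k, l, rfl⟩ := M.mem h
    rw [M.commutator_formula]
    exact zpow_mem_zpowers u _
  obtain ⟨k, hk⟩ := Subgroup.mem_zpowers_iff.1 (hder S.mem_commutator)
  have hna : n < a := by
    rcases lt_or_eq_of_le M.n_le with h | h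
    · exact h
    · exfalso
      obtain ⟨g, h', hgh⟩ := S.exists_not_commute
      obtain ⟨i, j, rfl⟩ := M.mem g
      obtain ⟨k', l, rfl⟩ := M.mem h'
      refine hgh ((M.commute_iff i k' j l).2 ?_).eq
      -- `p ^ a ∣ r - 1` times a multiple of `p`
      have hz : u ^ ((p : ℤ) ^ (a - 1) * (r - 1)) = 1 := by
        rw [M.zpow_eq_one_iff]
        rcases Nat.eq_zero_or_pos a with ha | ha
        · simp [ha]
        · conv_lhs => rw [← Nat.sub_add_cancel ha, pow_succ]
          exact mul_dvd_mul_left _ M.rmod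
      rw [M.comm_ord] at hz
      rw [← h] at hz
      rcases Nat.eq_zero_or_pos n with hn | hn
      · simp [hn]
      · exfalso
        have := (pow_dvd_pow_iff (by exact_mod_cast hp.out.ne_zero)
          (Nat.prime_iff_prime_int.mp hp.out).not_unit).1 hz
        omega
  have hk1 : (p : ℤ) ^ a ∣ k * p := by
    rw [← M.zpow_eq_one_iff, zpow_mul, hk, zpow_natCast]
    exact Subtype.ext (by simpa using S.pow_eq)
  have hk2 : (p : ℤ) ^ n ∣ k := by
    refine (pow_dvd_pow _ (show n ≤ a - 1 by omega)).trans ?_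
    have h : (p : ℤ) ^ (a - 1) * p ∣ k * p := by
      rwa [← pow_succ, Nat.sub_add_cancel (by omega)]
    exact Int.dvd_of_mul_dvd_mul_right (by exact_mod_cast hp.out.ne_zero) h
  obtain ⟨c, rfl⟩ := hk2
  refine S.pow_ne _ hc hmul (u ^ c) ?_
  have e : (((u ^ c) ^ p ^ n : ↥(P : Subgroup L)) : L) = x := by
    rw [← zpow_natCast, ← zpow_mul, mul_comm, Nat.cast_pow, hk]
  simpa using e

/-- The centre is cyclic. -/
theorem isCyclic_center (hp2 : p ≠ 2) (hrk : PRankLE p 2 ↥(P : Subgroup L)) :
    IsCyclic (center ↥(P : Subgroup L)) := by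
  by_contra h
  exact S.not_isMetacyclic hp2 (isMetacyclic_of_center hp2 P.2 hrk h)

/-- Exponent `p` gives the extraspecial conclusion. -/
theorem extraspecial_of_exponent (hrk : PRankLE p 2 ↥(P : Subgroup L))
    (hexp : ∀ a : ↥(P : Subgroup L), a ^ p = 1) :
    IsExtraspecial p ↥(P : Subgroup L) ∧ Nat.card (P : Subgroup L) = p ^ 3 := by
  obtain ⟨e, he⟩ := IsPGroup.iff_card.1 P.2
  have h3 : Nat.card (P : Subgroup L) ≤ p ^ 3 := Cfsg.Agent.S3771.result P.2 hrk hexp
  rw [he, Nat.pow_le_pow_iff_right hp.out.one_lt] at h3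
  obtain ⟨a, b, hab⟩ := S.exists_not_commute
  have he3 : e = 3 := by
    by_contra hne
    have hab' : IsMulCommutative ↥(P : Subgroup L) := by
      rcases (show e = 0 ∨ e = 1 ∨ e = 2 by omega) with rfl | rfl | rfl
      · haveI : Subsingleton ↥(P : Subgroup L) :=
          (Nat.card_eq_one_iff_unique.1 (by rw [he, pow_zero])).1
        exact ⟨⟨fun u v => Subsingleton.elim _ _⟩⟩
      · haveI := isCyclic_of_prime_card (he.trans (pow_one p))
        infer_instance
      · exact IsPGroup.isMulCommutative_of_card_eq_prime_sq he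
    exact hab (hab'.is_comm.comm a b)
  subst he3
  exact ⟨CfsgLib.Small.JTwoType.isExtraspecial_of_card_cube he ⟨a, b, hab⟩, he⟩

/-- Class two with derived group of exponent `p`. -/
theorem exponent_of_classTwo (hp2 : p ≠ 2) (hrk : PRankLE p 2 ↥(P : Subgroup L))
    (hc : ∀ a b : ↥(P : Subgroup L), ⁅a, b⁆ ∈ center ↥(P : Subgroup L))
    (he : ∀ a b : ↥(P : Subgroup L), ⁅a, b⁆ ^ p = 1) : ∀ a : ↥(P : Subgroup L), a ^ p = 1 :=
  S.pow_eq_one_of_hom (S.isCyclic_center hp2 hrk) p (classTwo_pow_hom hp2 hc he).1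
    (classTwo_pow_hom hp2 hc he).2

/-- Blackburn's first family. -/
theorem family_one (hp2 : p ≠ 2) (hrk : PRankLE p 2 ↥(P : Subgroup L)) {n : ℕ} (hn : 3 ≤ n)
    {u v z : ↥(P : Subgroup L)}
    (hgen : closure ({u, v, z} : Set ↥(P : Subgroup L)) = ⊤) (hz : z ^ p ^ (n - 2) = 1)
    (huz : u * z = z * u) (hvz : v * z = z * v) (huv : u⁻¹ * v * u = v * z ^ p ^ (n - 3)) :
    ∀ a : ↥(P : Subgroup L), a ^ p = 1 := by
  set c := z ^ p ^ (n - 3) with hc
  have hcp : c ^ p = 1 := by
    rw [hc, ← pow_mul, ← pow_succ, show n - 3 + 1 = n - 2 by omega, hz]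
  have hzc : z ∈ center ↥(P : Subgroup L) := by
    have h1 : closure ({u, v, z} : Set ↥(P : Subgroup L)) ≤ centralizer {z} := by
      rw [closure_le]
      rintro w (rfl | rfl | rfl) <;> refine Subgroup.mem_centralizer_singleton_iff.2 ?_
      · exact huz
      · exact hvz
      · rfl
    rw [hgen] at h1
    exact Subgroup.mem_center_iff.2 fun g =>
      Subgroup.mem_centralizer_singleton_iff.1 (h1 (mem_top g))
  have hC : zpowers c ≤ center ↥(P : Subgroup L) := zpowers_le.2 (pow_mem hzc _)
  haveI : (zpowers c).Normal := ⟨fun w hw g => by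
    rwa [Subgroup.mem_center_iff.1 (hC hw) g, mul_inv_cancel_right]⟩
  have hvu : ⁅v, u⁆ ∈ zpowers c := by
    have h1 : v * u = u * v * c := by rw [mul_assoc, ← huv]; group
    rw [commutatorElement_def, h1]
    have h2 : Commute c (u * v) := (Subgroup.mem_center_iff.1 (hC (mem_zpowers c)) _).symm
    rw [show u * v * c * v⁻¹ * u⁻¹ = u * v * c * (u * v)⁻¹ by group, ← h2.eq, mul_inv_cancel_right]
    exact mem_zpowers c
  have hz1 : ∀ w : ↥(P : Subgroup L), ⁅z, w⁆ = 1 ∧ ⁅w, z⁆ = 1 := fun w => by
    have := Subgroup.mem_center_iff.1 hzc w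
    exact ⟨commutatorElement_eq_one_iff_mul_comm.2 this.symm,
      commutatorElement_eq_one_iff_mul_comm.2 this⟩
  have hder : commutator ↥(P : Subgroup L) ≤ zpowers c := by
    refine commutator_le_of_gens hgen _ ?_
    rintro s (rfl | rfl | rfl) t (rfl | rfl | rfl) <;>
      first
      | (rw [commutatorElement_self]; exact one_mem _)
      | (rw [(hz1 _).1]; exact one_mem _)
      | (rw [(hz1 _).2]; exact one_mem _)
      | exact hvu
      | (rw [← commutatorElement_inv]; exact inv_mem hvu)
  refine S.exponent_of_classTwo hp2 hrk (fun a b => hC (hder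
    (commutator_mem_commutator (mem_top a) (mem_top b)))) fun a b => ?_
  obtain ⟨k, hk⟩ := hder (commutator_mem_commutator (mem_top a) (mem_top b))
  rw [← hk, ← zpow_natCast, ← zpow_mul, mul_comm, zpow_mul, zpow_natCast, hcp, one_zpow]

/-- Blackburn's second family: `p = 3` and maximal class of order `3 ^ 4`. -/
theorem family_two (hp2 : p ≠ 2) (hrk : PRankLE p 2 ↥(P : Subgroup L)) {n : ℕ} (hn : 4 ≤ n)
    (hcard : Nat.card (P : Subgroup L) = p ^ n) {s : ℕ} (hs : s = 1 ∨ ¬ IsSquare (s : ZMod p))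
    {u v z : ↥(P : Subgroup L)}
    (hgen : closure ({u, v, z} : Set ↥(P : Subgroup L)) = ⊤) (hu : u ^ p = 1) (hv : v ^ p = 1)
    (hz : z ^ p ^ (n - 2) = 1) (hvz : v * z = z * v)
    (huv : u⁻¹ * v * u = v * z ^ (s * p ^ (n - 3))) (huz : u⁻¹ * z * u = v * z) :
    p = 3 ∧ n = 4 ∧ (⊤ : Subgroup ↥(P : Subgroup L)).lowerCentralSeries 2 ≠ ⊥ := by
  set c := z ^ (s * p ^ (n - 3)) with hc
  have hps : ¬ p ∣ s := fun h => by
    rcases hs with rfl | hs
    · exact hp.out.ne_one (Nat.dvd_one.1 h)
    · exact hs ((ZMod.natCast_eq_zero_iff s p).2 h ▸ IsSquare.zero)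
  have hcp : c ^ p = 1 := by
    rw [hc, ← pow_mul, show s * p ^ (n - 3) * p = p ^ (n - 2) * s by
      rw [show n - 2 = n - 3 + 1 by omega, pow_succ]; ring, pow_mul, hz, one_pow]
  have hcvz : Commute v z := hvz
  have hzp : z ^ p ∈ center ↥(P : Subgroup L) := by
    have h1 : closure ({u, v, z} : Set ↥(P : Subgroup L)) ≤ centralizer {z ^ p} := by
      rw [closure_le]
      rintro w (rfl | rfl | rfl) <;> refine Subgroup.mem_centralizer_singleton_iff.2 ?_
      · have h2 : w⁻¹ * z ^ p * w = z ^ p := by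
          have := congrArg (· ^ p) huz
          simp only [hcvz.mul_pow, hv, one_mul] at this
          refine Eq.trans ?_ this
          have e := map_pow (MulAut.conj w⁻¹).toMonoidHom z p
          simp only [MulEquiv.coe_toMonoidHom, MulAut.conj_apply, inv_inv] at e
          exact e
        nth_rw 1 [← h2]; group
      · exact (hcvz.pow_right p).eq
      · exact (Commute.refl w).pow_right p |>.eq
    rw [hgen] at h1
    exact Subgroup.mem_center_iff.2 fun g =>
      Subgroup.mem_centralizer_singleton_iff.1 (h1 (mem_top g))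
  have hcc : c ∈ center ↥(P : Subgroup L) := by
    rw [hc, show s * p ^ (n - 3) = p * (s * p ^ (n - 4)) by
      rw [show n - 3 = n - 4 + 1 by omega, pow_succ]; ring, pow_mul]
    exact pow_mem hzp _
  set C := zpowers c with hCdef
  have hC : C ≤ center ↥(P : Subgroup L) := zpowers_le.2 hcc
  haveI hCn : C.Normal := ⟨fun w hw g => by
    rwa [Subgroup.mem_center_iff.1 (hC hw) g, mul_inv_cancel_right]⟩
  have hCp : ∀ w ∈ C, w ^ p = 1 := by
    rintro _ ⟨k, rfl⟩
    show (c ^ k) ^ p = 1
    rw [← zpow_natCast, ← zpow_mul, mul_comm, zpow_mul, zpow_natCast, hcp, one_zpow]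
  set D := C ⊔ zpowers v with hD
  -- the quotient by `C`
  set π := QuotientGroup.mk' C
  have hπs : Function.Surjective π := QuotientGroup.mk'_surjective C
  have hgen' : closure ({π u, π v, π z} : Set _) = ⊤ := by
    rw [show ({π u, π v, π z} : Set _) = π '' {u, v, z} by simp [Set.image_insert_eq],
      ← MonoidHom.map_closure, hgen, Subgroup.map_top_of_surjective _ hπs]
  have hπc : π c = 1 := (QuotientGroup.eq_one_iff c).2 (mem_zpowers c)
  have hπuv : π u * π v = π v * π u := by
    have := congrArg π huv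
    rw [map_mul, map_mul, map_mul, map_inv, hπc, mul_one, mul_assoc, inv_mul_eq_iff_eq_mul] at this
    exact this.symm
  have hπvc : π v ∈ center _ := by
    have h1 : closure ({π u, π v, π z} : Set _) ≤ centralizer {π v} := by
      rw [closure_le]
      rintro w (rfl | rfl | rfl) <;> refine Subgroup.mem_centralizer_singleton_iff.2 ?_
      · exact hπuv
      · rfl
      · rw [← map_mul, ← map_mul, hvz]
    rw [hgen'] at h1
    exact Subgroup.mem_center_iff.2 fun g =>
      Subgroup.mem_centralizer_singleton_iff.1 (h1 (mem_top g))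
  have hV : zpowers (π v) ≤ center _ := zpowers_le.2 hπvc
  haveI : (zpowers (π v)).Normal := ⟨fun w hw g => by
    rwa [Subgroup.mem_center_iff.1 (hV hw) g, mul_inv_cancel_right]⟩
  have hderQ : commutator (↥(P : Subgroup L) ⧸ C) ≤ zpowers (π v) := by
    have h1 : ⁅π z, π u⁆ ∈ zpowers (π v) := by
      rw [← map_commutatorElement]
      have h2 : z * u = u * (v * z) := by rw [← huz]; group
      have h3 : ⁅z, u⁆ = u * v * u⁻¹ := by
        rw [commutatorElement_def, h2]; group
      rw [h3, map_mul, map_mul, map_inv, hπuv, mul_inv_cancel_right]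
      exact mem_zpowers _
    refine commutator_le_of_gens hgen' _ ?_
    rintro s (rfl | rfl | rfl) t (rfl | rfl | rfl) <;>
      first
      | (rw [commutatorElement_self]; exact one_mem _)
      | exact h1
      | (rw [← commutatorElement_inv]; exact inv_mem h1)
      | (rw [commutatorElement_eq_one_iff_mul_comm.2 (Subgroup.mem_center_iff.1 hπvc _).symm]
         exact one_mem _)
      | (rw [commutatorElement_eq_one_iff_mul_comm.2 (Subgroup.mem_center_iff.1 hπvc _)]
         exact one_mem _)
  have hVp : ∀ w ∈ zpowers (π v), w ^ p = 1 := by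
    rintro _ ⟨k, rfl⟩
    show (π v ^ k) ^ p = 1
    rw [← zpow_natCast, ← zpow_mul, mul_comm, zpow_mul, zpow_natCast, ← map_pow, hv, map_one,
      one_zpow]
  obtain ⟨-, hmulQ⟩ := classTwo_pow_hom hp2
    (fun a b => hV (hderQ (commutator_mem_commutator (mem_top a) (mem_top b))))
    (fun a b => hVp _ (hderQ (commutator_mem_commutator (mem_top a) (mem_top b))))
  have hd : ∀ a b : ↥(P : Subgroup L), ∃ d ∈ C, (a * b) ^ p = a ^ p * b ^ p * d := by
    intro a b
    refine ⟨(a ^ p * b ^ p)⁻¹ * (a * b) ^ p, ?_, by group⟩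
    refine (QuotientGroup.eq_one_iff _).1 ?_
    show π _ = 1
    rw [map_mul, map_inv, map_mul, map_pow, map_pow, map_pow, map_mul, hmulQ, inv_mul_cancel]
  have hpc : ∀ a : ↥(P : Subgroup L), a ^ p ∈ center ↥(P : Subgroup L) := by
    intro a
    have hle : closure ({u, v, z} : Set ↥(P : Subgroup L)) ≤
        (((center ↥(P : Subgroup L)).map π).comap
          (MonoidHom.mk' (fun w : ↥(P : Subgroup L) ⧸ C => w ^ p) hmulQ)).comap π := by
      rw [closure_le]
      rintro w (rfl | rfl | rfl) <;>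
        refine ⟨w ^ p, ?_, by simp⟩
      · rw [hu]; exact one_mem _
      · rw [hv]; exact one_mem _
      · exact hzp
    obtain ⟨d, hd', hde⟩ := hle (hgen ▸ mem_top a)
    have hde' : π d = π (a ^ p) := by rw [hde, map_pow]; rfl
    rw [QuotientGroup.mk'_apply, QuotientGroup.mk'_apply, QuotientGroup.eq] at hde'
    simpa using mul_mem hd' (hC hde')
  have hsq : ∀ a : ↥(P : Subgroup L), a ^ (p * p) = 1 := by
    refine S.pow_eq_one_of_hom (S.isCyclic_center hp2 hrk) (p * p) (fun a => ?_) fun a b => ?_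
    · rw [pow_mul]; exact pow_mem (hpc a) p
    · obtain ⟨d, hd', hde⟩ := hd a b
      have h1 : Commute (a ^ p * b ^ p) d := Subgroup.mem_center_iff.1 (hC hd') _
      have h2 : Commute (a ^ p) (b ^ p) := Subgroup.mem_center_iff.1 (hpc b) _
      rw [pow_mul, hde, h1.mul_pow, hCp d hd', mul_one, h2.mul_pow, pow_mul, pow_mul]
  -- order
  have hcz : Nat.card (P : Subgroup L) ≤ orderOf z * orderOf v * orderOf u := by
    set A := zpowers z ⊔ zpowers v with hA
    have hAu : A.map (MulAut.conj u⁻¹).toMonoidHom ≤ A := by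
      rw [hA, Subgroup.map_sup, MonoidHom.map_zpowers, MonoidHom.map_zpowers, sup_le_iff,
        zpowers_le, zpowers_le]
      simp only [MulEquiv.coe_toMonoidHom, MulAut.conj_apply, inv_inv, huz, huv]
      exact ⟨mul_mem (mem_sup_right (mem_zpowers v)) (mem_sup_left (mem_zpowers z)),
        mul_mem (mem_sup_right (mem_zpowers v)) (mem_sup_left (npow_mem_zpowers z _))⟩
    have hmap : A.map (MulAut.conj u⁻¹).toMonoidHom = A := Subgroup.eq_of_le_of_card_ge hAu
      (Nat.card_congr (equivMapOfInjective _ _ (MulAut.conj u⁻¹).injective).toEquiv).le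
    have huN : u⁻¹ ∈ normalizer (A : Set ↥(P : Subgroup L)) :=
      Subgroup.mem_normalizer_iff_map_conj_eq.2 hmap
    haveI : A.Normal := by
      rw [← Subgroup.normalizer_eq_top_iff, eq_top_iff, ← hgen, closure_le]
      rintro w (rfl | rfl | rfl)
      · simpa using inv_mem huN
      · exact Subgroup.le_normalizer (mem_sup_right (mem_zpowers _))
      · exact Subgroup.le_normalizer (mem_sup_left (mem_zpowers _))
    have hAcard : Nat.card A ≤ orderOf z * orderOf v := by
      rw [← Nat.card_zpowers, ← Nat.card_zpowers, ← Nat.card_prod]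
      refine Nat.card_le_card_of_surjective
        (fun q : zpowers z × zpowers v => (⟨(q.1 : ↥(P : Subgroup L)) * q.2,
          mul_mem (mem_sup_left q.1.2) (mem_sup_right q.2.2)⟩ : A)) ?_
      rintro ⟨w, hw⟩
      have hcen : zpowers v ≤ normalizer (zpowers z : Set ↥(P : Subgroup L)) := by
        refine le_trans ?_ (Subgroup.centralizer_le_normalizer _)
        rw [zpowers_le, Subgroup.mem_centralizer_iff]
        rintro _ ⟨k, rfl⟩
        exact (hcvz.symm.zpow_left k).eq
      rw [hA, sup_comm] at hw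
      obtain ⟨w₁, h₁, w₂, h₂, rfl⟩ := (Coprime.mem_sup_iff_of_le_normalizer hcen).1 hw
      refine ⟨(⟨w₂, h₂⟩, ⟨w₁, h₁⟩), Subtype.ext ?_⟩
      obtain ⟨i, rfl⟩ := h₁
      obtain ⟨j, rfl⟩ := h₂
      exact (hcvz.symm.zpow_zpow j i).eq
    have htop : A ⊔ zpowers u = ⊤ := by
      rw [eq_top_iff, ← hgen, closure_le]
      rintro w (rfl | rfl | rfl)
      · exact mem_sup_right (mem_zpowers _)
      · exact mem_sup_left (mem_sup_right (mem_zpowers _))
      · exact mem_sup_left (mem_sup_left (mem_zpowers _))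
    calc Nat.card (P : Subgroup L) = Nat.card ↥(A ⊔ zpowers u) := by rw [htop, Subgroup.card_top]
      _ ≤ Nat.card A * orderOf u := card_sup_zpowers_le A u
      _ ≤ _ := Nat.mul_le_mul_right _ hAcard
  have huo : orderOf u ≤ p := Nat.le_of_dvd hp.out.pos (orderOf_dvd_of_pow_eq_one hu)
  have hvo : orderOf v ≤ p := Nat.le_of_dvd hp.out.pos (orderOf_dvd_of_pow_eq_one hv)
  have hn4 : n = 4 := by
    refine le_antisymm ((Nat.pow_le_pow_iff_right hp.out.one_lt).1 ?_) hn
    rw [← hcard]
    refine hcz.trans ?_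
    calc orderOf z * orderOf v * orderOf u ≤ p * p * p * p := Nat.mul_le_mul
          (Nat.mul_le_mul (Nat.le_of_dvd (mul_pos hp.out.pos hp.out.pos)
            (orderOf_dvd_of_pow_eq_one (hsq z))) hvo) huo
      _ = p ^ 4 := by ring
  subst hn4
  have hzne : z ^ p ≠ 1 := fun h => by
    have h1 := hcz.trans (Nat.mul_le_mul (Nat.mul_le_mul
      (Nat.le_of_dvd hp.out.pos (orderOf_dvd_of_pow_eq_one h)) hvo) huo)
    rw [hcard, show p * p * p = p ^ 3 by ring, Nat.pow_le_pow_iff_right hp.out.one_lt] at h1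
    omega
  have hcne : c ≠ 1 := fun h => hzne (by
    rw [hc, pow_one, mul_comm, pow_mul] at h
    have h1 : (z ^ p) ^ p = 1 := by rw [← pow_mul]; exact hsq z
    have h2 : Nat.gcd p s = 1 := (hp.out.coprime_iff_not_dvd.2 hps)
    have := pow_gcd_eq_one.2 (⟨h1, h⟩ : (z ^ p) ^ p = 1 ∧ (z ^ p) ^ s = 1)
    rwa [h2, pow_one] at this)
  haveI hDn : D.Normal := by
    have hDeq : D = (zpowers (π v)).comap π := by
      rw [← MonoidHom.map_zpowers, Subgroup.comap_map_eq, QuotientGroup.ker_mk', sup_comm]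
    rw [hDeq]; infer_instance
  have hcomm : commutator ↥(P : Subgroup L) ≤ D := by
    intro w hw
    have h1 : π w ∈ zpowers (π v) := hderQ (by
      rw [_root_.commutator_def, ← Subgroup.map_top_of_surjective π hπs, ← Subgroup.map_commutator]
      exact ⟨w, hw, rfl⟩)
    rw [← MonoidHom.map_zpowers] at h1
    obtain ⟨w', hw', he⟩ := h1
    rw [QuotientGroup.mk'_apply, QuotientGroup.mk'_apply, QuotientGroup.eq] at he
    have h2 := mul_mem (mem_sup_right (S := C) hw') (mem_sup_left (T := zpowers v) he)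
    rwa [mul_inv_cancel_left] at h2
  have hp3 : p = 3 := by
    by_contra hne
    have h3 : 3 < p := by have := hp.out.two_le; omega
    have hcl : CfsgLib.PGroups.SmallClassPower.SmallClass ↥(P : Subgroup L) p := by
      refine Or.inr ⟨h3, ?_⟩
      rw [eq_bot_iff]
      refine le_trans (commutator_mono (K₁ := C) ?_ le_rfl)
        (Subgroup.commutator_eq_bot_iff_le_centralizer.2 ?_).le
      · rw [commutator_le]
        intro a ha b _
        refine (QuotientGroup.eq_one_iff _).1 ?_
        show π _ = 1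
        rw [map_commutatorElement, commutatorElement_eq_one_iff_mul_comm]
        exact (Subgroup.mem_center_iff.1 (hV (hderQ (by
          rw [_root_.commutator_def, ← Subgroup.map_top_of_surjective π hπs, ← Subgroup.map_commutator]
          exact ⟨a, ha, rfl⟩))) _).symm
      · intro a ha
        exact Subgroup.mem_centralizer_iff.2 fun b _ => Subgroup.mem_center_iff.1 (hC ha) b
    have hom : D ≤ closure {w : ↥(P : Subgroup L) | w ^ p = 1} :=
      sup_le (zpowers_le.2 (subset_closure hcp)) (zpowers_le.2 (subset_closure hv))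
    have hexp := S.pow_eq_one_of_hom (S.isCyclic_center hp2 hrk) p hpc
      (CfsgLib.PGroups.SmallClassPower.mul_pow_of_derived hcl (hcomm.trans hom))
    exact hzne (hexp z)
  refine ⟨hp3, rfl, fun h => hcne ?_⟩
  rw [Subgroup.lowerCentralSeries_succ, Subgroup.top_lowerCentralSeries_one,
    Subgroup.commutator_eq_bot_iff_le_centralizer] at h
  have hvd : v ∈ commutator ↥(P : Subgroup L) := by
    have h2 : ⁅u⁻¹, z⁆ = v := by rw [commutatorElement_def, inv_inv, huz, mul_inv_cancel_right]
    exact h2 ▸ commutator_mem_commutator (mem_top _) (mem_top _)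
  have h3 : u * v = v * u := Subgroup.mem_centralizer_iff.1 (h hvd) u (mem_top u)
  rw [mul_assoc, ← h3, inv_mul_cancel_left] at huv
  exact left_eq_mul.1 huv

end Setting

end CfsgLib.LocalEven.IsoSylow
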