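import Mathlib

/-!
A group of automorphisms of order prime to three of a plane over `𝔽₃` fixing a line.
-/

set_option autoImplicit false
set_option linter.unusedSectionVars false

namespace CfsgLib.LocalEven.IsoSylow

open Subgroup

/-- Either some element inverts the plane or some nontrivial endomorphism is constant on orbits. -/
theorem plane_dichotomy {V : Type*} [CommGroup V] [Finite V] (hV : Nat.card V = 9)
    (he : ∀ v : V, v ^ 3 = 1) (K : Subgroup V) (hK : Nat.card K = 3) (T : Set (MulAut V))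
    (hmul : ∀ f ∈ T, ∀ g ∈ T, f * g ∈ T) (hKT : ∀ f ∈ T, ∀ v ∈ K, f v ∈ K)
    (hord : ∀ f ∈ T, ∃ m : ℕ, Nat.Coprime m 3 ∧ f ^ m = 1) :
    (∃ f ∈ T, ∀ v, f v = v⁻¹) ∨
      ∃ φ : V →* V, (∃ v, φ v ≠ 1) ∧ ∀ f ∈ T, ∀ v, φ (f v) = φ v := by
  classical
  have : Fact (Nat.Prime 3) := ⟨Nat.prime_three⟩
  obtain ⟨⟨k, hkK⟩, hk⟩ := exists_prime_orderOf_dvd_card' (G := K) 3 (by rw [hK])
  rw [Subgroup.orderOf_mk] at hk
  have hKeq : zpowers k = K := Subgroup.eq_of_le_of_card_ge (zpowers_le.2 hkK)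
    (by rw [hK, Nat.card_zpowers, hk])
  have hk3 : ∀ v ∈ K, v = 1 ∨ v = k ∨ v = k⁻¹ := by
    intro v hv
    rw [← hKeq] at hv
    obtain ⟨i, rfl⟩ := hv
    have h := zpow_mod_orderOf k i
    rw [hk] at h
    show k ^ i = 1 ∨ k ^ i = k ∨ k ^ i = k⁻¹
    rw [← h]
    rcases (show i % ((3 : ℕ) : ℤ) = 0 ∨ i % ((3 : ℕ) : ℤ) = 1 ∨ i % ((3 : ℕ) : ℤ) = 2 by omega)
      with e | e | e <;> rw [e]
    · exact Or.inl (zpow_zero k)
    · exact Or.inr (Or.inl (zpow_one k))
    · refine Or.inr (Or.inr (eq_inv_of_mul_eq_one_left ?_))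
      rw [zpow_two, ← he k]
      simp [pow_succ]
  have hk1 : k ≠ 1 := fun h => by rw [h, orderOf_one] at hk; omega
  obtain ⟨g, hg⟩ : ∃ g : V, g ∉ K := by
    by_contra h
    push Not at h
    have : K = ⊤ := eq_top_iff.2 fun v _ => h v
    rw [this, Subgroup.card_top, hV] at hK
    omega
  have htop : ∀ v : V, ∃ a ∈ K, v = a ∨ v = g * a ∨ v = g⁻¹ * a := by
    intro v
    have hidx : K.index = 3 := by
      have := K.card_mul_index
      rw [hK, hV] at this; omega
    have hg3 : orderOf (QuotientGroup.mk g : V ⧸ K) = 3 := orderOf_eq_prime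
      (by rw [← QuotientGroup.mk_pow, he]; rfl) fun h => hg ((QuotientGroup.eq_one_iff g).1 h)
    have hv : (QuotientGroup.mk v : V ⧸ K) ∈ zpowers (QuotientGroup.mk g : V ⧸ K) := by
      have : zpowers (QuotientGroup.mk g : V ⧸ K) = ⊤ := Subgroup.eq_top_of_card_eq _
        (by rw [Nat.card_zpowers, hg3, ← Subgroup.index, hidx])
      rw [this]; exact mem_top _
    obtain ⟨i, hi⟩ := hv
    have hi' : g ^ i * (g ^ i)⁻¹ * v = v := by simp
    have hmem : (g ^ i)⁻¹ * v ∈ K := QuotientGroup.eq.1 (by rw [QuotientGroup.mk_zpow]; exact hi)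
    have hgi : g ^ i = 1 ∨ g ^ i = g ∨ g ^ i = g⁻¹ := by
      have ho : orderOf g = 3 := orderOf_eq_prime (he g) fun h => hg (h ▸ one_mem K)
      have h := zpow_mod_orderOf g i
      rw [ho] at h
      rw [← h]
      rcases (show i % ((3 : ℕ) : ℤ) = 0 ∨ i % ((3 : ℕ) : ℤ) = 1 ∨ i % ((3 : ℕ) : ℤ) = 2 by omega)
        with e | e | e <;> rw [e]
      · exact Or.inl (zpow_zero g)
      · exact Or.inr (Or.inl (zpow_one g))
      · refine Or.inr (Or.inr (eq_inv_of_mul_eq_one_left ?_))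
        rw [zpow_two, ← he g]
        simp [pow_succ]
    refine ⟨(g ^ i)⁻¹ * v, hmem, ?_⟩
    rcases hgi with e | e | e <;> simp [e]
  have hext : ∀ f f' : V →* V, f k = f' k → f g = f' g → f = f' := by
    intro f f' h1 h2
    have hK' : ∀ a ∈ K, f a = f' a := by
      intro a ha
      rw [← hKeq] at ha
      obtain ⟨i, rfl⟩ := ha
      simp [h1]
    ext v
    obtain ⟨a, ha, e | e | e⟩ := htop v <;> subst e
    · exact hK' _ ha
    · rw [map_mul, map_mul, h2, hK' _ ha]
    · rw [map_mul, map_mul, map_inv, map_inv, h2, hK' _ ha]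
  -- the action on the line
  have hfk : ∀ f ∈ T, f k = k ∨ f k = k⁻¹ := fun f hf => by
    rcases hk3 _ (hKT f hf k hkK) with h | h | h
    · exact absurd (f.injective (h.trans (map_one f).symm)) hk1
    · exact Or.inl h
    · exact Or.inr h
  -- the action on the quotient by the line
  have hfg : ∀ f ∈ T, (∃ a ∈ K, f g = g * a) ∨ (∃ a ∈ K, f g = g⁻¹ * a) := fun f hf => by
    obtain ⟨a, ha, e | e | e⟩ := htop (f g)
    · exfalso
      refine hg ?_
      rw [← hKeq] at ha
      obtain ⟨i, hi⟩ := ha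
      rw [← hi] at e
      rcases hfk f hf with h | h
      · have h' : g = k ^ i := f.injective (by rw [e, map_zpow, h])
        rw [h']; exact zpow_mem hkK _
      · have h' : g = k⁻¹ ^ i := f.injective (by rw [e, map_zpow, map_inv, h, inv_inv])
        rw [h']; exact zpow_mem (inv_mem hkK) _
    · exact Or.inl ⟨a, ha, e⟩
    · exact Or.inr ⟨a, ha, e⟩
  -- the unipotent ones are trivial
  have huni : ∀ f ∈ T, f k = k → (∃ a ∈ K, f g = g * a) → ∀ v, f v = v := by
    rintro f hf hfk' ⟨a, ha, hga⟩ v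
    have hfa : f a = a := by
      rw [← hKeq] at ha
      obtain ⟨i, rfl⟩ := ha
      rw [map_zpow, hfk']
    have hpow : ∀ j : ℕ, (f ^ j) k = k ∧ (f ^ j) g = g * a ^ j := by
      intro j
      induction j with
      | zero => simp
      | succ j ih =>
        rw [pow_succ', MulAut.mul_apply, MulAut.mul_apply, ih.1, ih.2, hfk', map_mul, hga,
          map_pow, hfa, pow_succ', mul_assoc]
        exact ⟨rfl, rfl⟩
    have hf3 : f ^ 3 = 1 := by
      have h := hext (f ^ 3 : MulAut V).toMonoidHom (MonoidHom.id V)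
        (by simpa using (hpow 3).1) (by simpa [he a] using (hpow 3).2)
      ext w
      exact DFunLike.congr_fun h w
    obtain ⟨m, hm, hfm⟩ := hord f hf
    have := pow_gcd_eq_one.2 (⟨hfm, hf3⟩ : f ^ m = 1 ∧ f ^ 3 = 1)
    rw [hm.gcd_eq_one, pow_one] at this
    simp [this]
  by_cases hneg : ∃ f ∈ T, f k = k⁻¹ ∧ ∃ a ∈ K, f g = g⁻¹ * a
  · obtain ⟨f, hf, hfk', a, ha, hga⟩ := hneg
    refine Or.inl ⟨f * (f * f), hmul f hf _ (hmul f hf f hf), fun v => ?_⟩
    have hfa : f a = a⁻¹ := by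
      rw [← hKeq] at ha
      obtain ⟨i, rfl⟩ := ha
      rw [map_zpow, hfk', inv_zpow]
    have h := hext (f * (f * f) : MulAut V).toMonoidHom (invMonoidHom : V →* V)
      (by simp [hfk']) (by
        simp only [MulEquiv.coe_toMonoidHom, MulAut.mul_apply, hga, map_mul, map_inv, hfa,
          invMonoidHom_apply, mul_inv_rev, inv_inv]
        calc _ = g⁻¹ * a ^ 3 := by
              simp only [pow_succ, pow_zero, one_mul]; ac_rfl
          _ = g⁻¹ := by rw [he, mul_one])
    exact DFunLike.congr_fun h v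
  · right
    by_cases htriv : ∀ f ∈ T, ∀ v, f v = v
    · exact ⟨MonoidHom.id V, ⟨k, hk1⟩, fun f hf v => htriv f hf v⟩
    push Not at htriv hneg
    obtain ⟨f₀, hf₀, v₀, hv₀⟩ := htriv
    -- every element acts as the identity or as `f₀`
    have hkinv : k⁻¹ ≠ k := fun h => hk1 (by
      have h1 := he k
      rw [pow_succ, pow_succ, pow_one, ← mul_eq_one_iff_eq_inv.2 h.symm] at h1
      simpa using h1)
    have key : ∀ f ∈ T, (∀ v, f v = v) ∨
        ((f k = k ∧ ∃ a ∈ K, f g = g⁻¹ * a) ∨ (f k = k⁻¹ ∧ ∃ a ∈ K, f g = g * a)) := by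
      intro f hf
      rcases hfk f hf with h | h <;> rcases hfg f hf with h' | h'
      · exact Or.inl (huni f hf h h')
      · exact Or.inr (Or.inl ⟨h, h'⟩)
      · exact Or.inr (Or.inr ⟨h, h'⟩)
      · obtain ⟨a, ha, e⟩ := h'
        exact absurd e (hneg f hf h a ha)
    have hmix : ∀ f ∈ T, ∀ f' ∈ T, f k = k → (∃ a ∈ K, f g = g⁻¹ * a) → f' k = k⁻¹ →
        (∃ a ∈ K, f' g = g * a) → False := by
      rintro f hf f' hf' h1 ⟨a, ha, h2⟩ h1' ⟨a', ha', h2'⟩
      refine hneg (f * f') (hmul f hf f' hf') (by simp [h1, h1']) (a * f a')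
        (mul_mem ha (hKT f hf a' ha')) ?_
      rw [MulAut.mul_apply, h2', map_mul, h2, mul_assoc]
    -- products with `f₀` are trivial
    have hsame : ∀ f ∈ T, (∀ v, f v = v) ∨ ∀ v, f v = f₀ v := by
      intro f hf
      rcases key f hf with h | h
      · exact Or.inl h
      right
      rcases key f₀ hf₀ with h₀ | h₀
      · exact absurd (h₀ v₀) hv₀
      have hff₀ : ∀ f' ∈ T, ((f' k = k ∧ ∃ a ∈ K, f' g = g⁻¹ * a) ∨
          (f' k = k⁻¹ ∧ ∃ a ∈ K, f' g = g * a)) → ∀ v, f' (f₀ v) = v := by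
        intro f' hf' h' v
        have h2 : (f' * f₀) k = k ∧ ∃ a ∈ K, (f' * f₀) g = g * a := by
          rcases h' with ⟨e1, a, ha, e2⟩ | ⟨e1, a, ha, e2⟩ <;>
            rcases h₀ with ⟨d1, b, hb, d2⟩ | ⟨d1, b, hb, d2⟩
          · refine ⟨by simp [e1, d1], a⁻¹ * f' b,
              mul_mem (inv_mem ha) (hKT f' hf' b hb), ?_⟩
            rw [MulAut.mul_apply, d2, map_mul, map_inv, e2]
            simp only [mul_inv_rev, inv_inv]; ac_rfl
          · exact (hmix f' hf' f₀ hf₀ e1 ⟨a, ha, e2⟩ d1 ⟨b, hb, d2⟩).elim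
          · exact (hmix f₀ hf₀ f' hf' d1 ⟨b, hb, d2⟩ e1 ⟨a, ha, e2⟩).elim
          · refine ⟨by simp [e1, d1], a * f' b, mul_mem ha (hKT f' hf' b hb), ?_⟩
            rw [MulAut.mul_apply, d2, map_mul, e2, mul_assoc]
        exact huni (f' * f₀) (hmul f' hf' f₀ hf₀) h2.1 h2.2 v
      intro v
      have h1 := hff₀ f hf h
      have h2 := hff₀ f₀ hf₀ h₀
      rw [← h2 v, h1, h2]
    refine ⟨MonoidHom.id V * f₀.toMonoidHom, ?_, fun f hf v => ?_⟩
    · rcases key f₀ hf₀ with h | ⟨h1, -⟩ | ⟨-, a, ha, h2⟩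
      · exact absurd (h v₀) hv₀
      · exact ⟨k, fun h => hkinv (inv_eq_of_mul_eq_one_right (by simpa [h1] using h))⟩
      · refine ⟨g, fun h => hg ?_⟩
        have h' : g * g * a = 1 := by simpa [h2, ← mul_assoc] using h
        have h3 : g ^ 3 * a = g := by
          rw [pow_succ', pow_two, mul_assoc, h', mul_one]
        rw [he, one_mul] at h3
        exact h3 ▸ ha
    · rcases hsame f hf with h | h
      · rw [h]
      · simp only [MonoidHom.mul_apply, MonoidHom.id_apply, MulEquiv.coe_toMonoidHom, h]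
        have h2 : f₀ (f₀ v) = v := by
          rcases hsame (f₀ * f₀) (hmul _ hf₀ _ hf₀) with e | e
          · exact e v
          · exact absurd (f₀.injective (e v₀)) hv₀
        rw [h2, mul_comm]

end CfsgLib.LocalEven.IsoSylow
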