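import Cfsg.Agent.Lib.LocalEven.IsoSylow.Powers
import Cfsg.Agent.Lib.PGroups.MaximalClass

/-!
A rank-two group with `|P : P'| = p ^ 2` has no image of order `p ^ 4` with an elementary abelian
subgroup of index `p`.
-/

set_option autoImplicit false
set_option linter.unusedSectionVars false
set_option linter.style.haveILetI false

namespace CfsgLib.LocalEven.IsoSylow

open Cfsg Subgroup
open scoped commutatorElement

variable {p : ℕ} [hp : Fact p.Prime]

theorem no_image {R W : Type*} [Group R] [Finite R] [Group W] [Finite W] (hp2 : p ≠ 2)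
    (hR : IsPGroup p R) (hrk : PRankLE p 2 R) (hidx : (commutator R).index = p ^ 2)
    (f : R →* W) (hf : Function.Surjective f) (A : Subgroup W) (hA : IsElementaryAbelian p A)
    (hA3 : Nat.card A = p ^ 3) (hW : Nat.card W = p ^ 4) : False := by
  obtain ⟨hAc, hAp⟩ := CfsgLib.Base.isElementaryAbelian_iff.1 hA
  have hAi : A.index = p := by
    have := A.card_mul_index
    rw [hA3, hW, pow_succ p 3] at this
    exact Nat.eq_of_mul_eq_mul_left (pow_pos hp.out.pos 3) this
  set N := f.ker with hN
  have hcardR : Nat.card R = Nat.card N * p ^ 4 := by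
    rw [← N.card_mul_index, hN, index_ker, MonoidHom.range_eq_top.2 hf, Subgroup.card_top, hW]
  by_cases hbot : N = ⊥
  · have hinj : Function.Injective f := (MonoidHom.ker_eq_bot_iff f).1 hbot
    have h1 := CfsgLib.Base.isElementaryAbelian_comap hinj hA
    have h2 := CfsgLib.Base.pRankLE_iff.1 hrk _ h1
    rw [Nat.card_congr (MulEquiv.subgroupMap (MulEquiv.ofBijective f ⟨hinj, hf⟩) _).toEquiv,
      show (A.comap f).map (MulEquiv.ofBijective f ⟨hinj, hf⟩ : R →* W) = A from
        Subgroup.map_comap_eq_self_of_surjective hf A, hA3,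
      Nat.pow_le_pow_iff_right hp.out.one_lt] at h2
    omega
  obtain ⟨e, he⟩ := CfsgLib.PGroups.card_subgroup_eq_pow hR N
  obtain ⟨e, rfl⟩ : ∃ k, e = k + 1 := Nat.exists_eq_add_one_of_ne_zero fun h => hbot
    (Subgroup.card_eq_one.1 (by rw [he, h, pow_zero]))
  obtain ⟨N', hN'n, -, hN'le, hN'c⟩ := CfsgLib.PGroups.exists_normal_card_eq (p := p) hR
    (N := (⊥ : Subgroup R)) (M := N) bot_le (k := e)
    (by rw [Subgroup.card_bot]; exact Nat.one_le_pow _ _ hp.out.pos)
    (by rw [he]; exact Nat.pow_le_pow_right hp.out.pos (Nat.le_succ e))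
  haveI := hN'n
  set π := QuotientGroup.mk' N' with hπdef
  have hπ : Function.Surjective π := QuotientGroup.mk'_surjective N'
  set fb := QuotientGroup.lift N' f hN'le with hfb
  have hfb' : ∀ u, fb (π u) = f u := fun u => QuotientGroup.lift_mk' _ _ _
  have hfbs : Function.Surjective fb := fun w => by
    obtain ⟨u, rfl⟩ := hf w; exact ⟨π u, hfb' u⟩
  have hQcard : Nat.card (R ⧸ N') = p ^ 5 := by
    have := Subgroup.card_eq_card_quotient_mul_card_subgroup N'
    rw [hcardR, he, hN'c] at this
    refine Nat.eq_of_mul_eq_mul_right (pow_pos hp.out.pos e) ?_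
    rw [← this]; ring
  have hQp : IsPGroup p (R ⧸ N') := hR.to_quotient N'
  have hkc : Nat.card fb.ker = p := by
    have h := fb.ker.card_mul_index
    rw [index_ker, MonoidHom.range_eq_top.2 hfbs, Subgroup.card_top, hW, hQcard, pow_succ p 4,
      mul_comm] at h
    exact Nat.eq_of_mul_eq_mul_left (pow_pos hp.out.pos 4) h
  have hkcen : fb.ker ≤ center (R ⧸ N') := by
    have hlt := CfsgLib.PGroups.commutator_top_lt hQp (N := fb.ker) fun h => by
      rw [h, Subgroup.card_bot] at hkc; exact hp.out.ne_one hkc.symm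
    have h1 : ⁅fb.ker, (⊤ : Subgroup (R ⧸ N'))⁆ = ⊥ := by
      rcases (Nat.dvd_prime hp.out).1 (hkc ▸ Subgroup.card_dvd_of_le hlt.le) with h | h
      · exact Subgroup.card_eq_one.1 h
      · exact absurd (Subgroup.eq_of_le_of_card_ge hlt.le (by rw [hkc, h])) hlt.ne
    intro u hu
    exact Subgroup.mem_center_iff.2 fun v => Subgroup.mem_centralizer_iff.1
      (Subgroup.commutator_eq_bot_iff_le_centralizer.1 h1 hu) v (mem_top v)
  have hkp : ∀ u ∈ fb.ker, u ^ p = 1 := fun u hu => by
    have := pow_card_eq_one' (G := fb.ker) (x := ⟨u, hu⟩)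
    rw [hkc] at this
    exact congrArg Subtype.val this
  set B := A.comap fb with hB
  have hBi : B.index = p := by rw [hB, Subgroup.index_comap_of_surjective _ hfbs, hAi]
  haveI : B.Normal := CfsgLib.PGroups.normal_of_isCoatom hQp ⟨fun h => by
      rw [h, Subgroup.index_top] at hBi; exact hp.out.ne_one hBi.symm, fun K hK => by
      have h1 := Subgroup.index_dvd_of_le hK.le
      rw [hBi] at h1
      rcases (Nat.dvd_prime hp.out).1 h1 with h | h
      · exact Subgroup.index_eq_one.1 h
      · exact absurd hK.le (fun hle => hK.ne (Subgroup.eq_of_le_of_card_ge hle (by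
          have h2 := K.card_mul_index
          rw [h] at h2
          rw [← B.card_mul_index, hBi] at h2
          exact (Nat.eq_of_mul_eq_mul_right hp.out.pos h2).le)))⟩
  have hBc : ∀ a ∈ B, ∀ b ∈ B, ⁅a, b⁆ ∈ fb.ker := fun a ha b hb => by
    rw [MonoidHom.mem_ker, map_commutatorElement, commutatorElement_eq_one_iff_mul_comm]
    exact hAc _ ha _ hb
  have hBp : ∀ a ∈ B, a ^ p ∈ fb.ker := fun a ha => by
    rw [MonoidHom.mem_ker, map_pow]; exact hAp _ ha
  obtain ⟨k, hk⟩ := hp.out.dvd_choose_self two_ne_zero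
    (lt_of_le_of_ne hp.out.two_le (Ne.symm hp2))
  have hmulB : ∀ a ∈ B, ∀ b ∈ B, (a * b) ^ p = a ^ p * b ^ p := fun a ha b hb => by
    rw [CfsgLib.PGroups.mul_pow_of_central (hkcen (hBc b hb a ha)), hk, pow_mul,
      hkp _ (hBc b hb a ha), one_pow, mul_one]
  let K₀ : Subgroup (R ⧸ N') :=
    { carrier := {u | u ∈ B ∧ u ^ p = 1}
      one_mem' := ⟨one_mem B, one_pow p⟩
      mul_mem' := fun {a b} ha hb => ⟨mul_mem ha.1 hb.1, by
        rw [hmulB a ha.1 b hb.1, ha.2, hb.2, one_mul]⟩
      inv_mem' := fun {a} ha => ⟨inv_mem ha.1, by rw [inv_pow, ha.2, inv_one]⟩ }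
  haveI : K₀.Normal := ⟨fun u hu g =>
    ⟨Subgroup.Normal.conj_mem inferInstance u hu.1 g, by rw [conj_pow, hu.2, mul_one, mul_inv_cancel]⟩⟩
  have hkey : ∀ a ∈ B, ∀ g, ⁅a, g⁆ ∈ K₀ := by
    intro a ha g
    have hmem : g * a⁻¹ * g⁻¹ ∈ B := Subgroup.Normal.conj_mem inferInstance _ (inv_mem ha) g
    have he : ⁅a, g⁆ = a * (g * a⁻¹ * g⁻¹) := by rw [commutatorElement_def]; group
    refine ⟨he ▸ mul_mem ha hmem, ?_⟩
    rw [he, hmulB a ha _ hmem, conj_pow, inv_pow,
      Subgroup.mem_center_iff.1 (inv_mem (hkcen (hBp a ha))) g, mul_inv_cancel_right,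
      mul_inv_cancel]
  obtain ⟨g, hg⟩ : ∃ g, g ∉ B := by
    by_contra h
    push Not at h
    rw [show B = ⊤ from eq_top_iff.2 fun u _ => h u, Subgroup.index_top] at hBi
    exact hp.out.ne_one hBi.symm
  have htop : closure ((B : Set (R ⧸ N')) ∪ {g}) = ⊤ := by
    rw [Subgroup.closure_union, Subgroup.closure_eq]
    have hlt : B < B ⊔ closure {g} := lt_of_le_of_ne le_sup_left fun h => hg
      (h.ge (mem_sup_right (subset_closure rfl)))
    have h1 := Subgroup.index_dvd_of_le hlt.le
    rw [hBi] at h1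
    rcases (Nat.dvd_prime hp.out).1 h1 with h | h
    · exact Subgroup.index_eq_one.1 h
    · exfalso
      refine hlt.ne (Subgroup.eq_of_le_of_card_ge hlt.le ?_)
      have h2 := (B ⊔ closure {g}).card_mul_index
      rw [h, ← B.card_mul_index, hBi] at h2
      exact (Nat.eq_of_mul_eq_mul_right hp.out.pos h2).le
  have hder : commutator (R ⧸ N') ≤ K₀ := by
    refine commutator_le_of_gens htop K₀ ?_
    rintro s (hs | rfl) t (ht | rfl)
    · exact hkey s hs t
    · exact hkey s hs t
    · rw [← commutatorElement_inv]; exact inv_mem (hkey t ht s)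
    · rw [commutatorElement_self]; exact one_mem _
  have hmap : (commutator R).map π = commutator (R ⧸ N') := by
    rw [_root_.commutator_def, _root_.commutator_def, Subgroup.map_commutator,
      Subgroup.map_top_of_surjective π hπ]
  -- the derived group lies in the centralizer of a plane
  obtain ⟨E, -, hEn, hEe, hE2⟩ := CfsgLib.PLocal.exists_normal_elementary_sq hp2 hR ⊤ fun h => by
    haveI : IsCyclic R := isCyclic_of_surjective (Subgroup.topEquiv (G := R)).toMonoidHom
      (Subgroup.topEquiv (G := R)).surjective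
    have hb : commutator R = ⊥ := by
      rw [_root_.commutator_def, Subgroup.commutator_eq_bot_iff_le_centralizer]
      exact fun a _ => Subgroup.mem_centralizer_iff.2 fun b _ =>
        (IsCyclic.isMulCommutative (α := R)).is_comm.comm b a
    rw [hb, Subgroup.index_bot, hcardR, he, ← pow_add] at hidx
    have := Nat.pow_right_injective hp.out.two_le hidx
    omega
  haveI := hEn
  set C := centralizer (E : Set R)
  have hCi : C.index ≤ p := by simpa using CfsgLib.PGroups.index_centralizer_le hR 2 hE2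
  have hYC : commutator R ≤ C := by
    have hQc : IsCyclic (R ⧸ C) := by
      obtain ⟨i, hi⟩ := hR.index C
      rw [hi] at hCi
      rcases (show i = 0 ∨ i = 1 by
        have := (Nat.pow_le_pow_iff_right hp.out.one_lt).1 (hCi.trans (pow_one p).ge); omega)
        with rfl | rfl
      · haveI : Subsingleton (R ⧸ C) :=
          (Nat.card_eq_one_iff_unique.1 (by rw [← Subgroup.index, hi, pow_zero])).1
        infer_instance
      · exact isCyclic_of_prime_card (p := p) (by rw [← Subgroup.index, hi, pow_one])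
    rw [_root_.commutator_def, commutator_le]
    intro a _ b _
    refine (QuotientGroup.eq_one_iff _).1 ?_
    show QuotientGroup.mk' C ⁅a, b⁆ = 1
    rw [map_commutatorElement, commutatorElement_eq_one_iff_mul_comm]
    exact (IsCyclic.isMulCommutative (α := R ⧸ C)).is_comm.comm _ _
  set Y := commutator R with hY
  have hcount := card_le_sq_mul hp2 hR hrk hEe hE2 Y hYC
  set φ : Y →* R ⧸ N' := π.comp Y.subtype
  have hrange : φ.range = commutator (R ⧸ N') := by
    rw [MonoidHom.range_eq_map, ← hmap, ← Subgroup.map_map, ← MonoidHom.range_eq_map,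
      Subgroup.range_subtype]
  have hpow : Nat.card (Set.range fun u : Y => u ^ p) ≤ Nat.card φ.ker :=
    Nat.card_le_card_of_injective (fun w => (⟨w.1, by
      obtain ⟨u, hu⟩ := w.2
      have := (hder (hrange.le ⟨u, rfl⟩)).2
      rw [MonoidHom.mem_ker, ← hu, map_pow]
      exact this⟩ : φ.ker)) fun u v huv => Subtype.ext (congrArg (fun t : φ.ker => (t : Y)) huv)
  have hY' : Nat.card Y = Nat.card φ.ker * Nat.card φ.range := by
    rw [← φ.ker.card_mul_index, index_ker]
  have hQ2 : Nat.card (commutator (R ⧸ N')) ≤ p ^ 2 := by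
    rw [← hrange]
    refine Nat.le_of_mul_le_mul_left ?_ (Nat.card_pos (α := φ.ker))
    rw [← hY', mul_comm (Nat.card φ.ker)]
    exact hcount.trans (Nat.mul_le_mul_left _ hpow)
  have hQi : (commutator (R ⧸ N')).index ≤ p ^ 2 := by
    rw [← hmap, ← hidx]
    exact Nat.le_of_dvd (Nat.pos_of_ne_zero Subgroup.FiniteIndex.index_ne_zero)
      (Subgroup.index_map_dvd (H := Y) hπ)
  have := Nat.mul_le_mul hQ2 hQi
  rw [Subgroup.card_mul_index, hQcard, ← pow_add, Nat.pow_le_pow_iff_right hp.out.one_lt] at this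
  omega

end CfsgLib.LocalEven.IsoSylow
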