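import Cfsg.Agent.Lib.LocalEven.IsoSylow.Basic
import Cfsg.Agent.Lib.LocalEven.IsoSylow.Plane
import Cfsg.Agent.Lib.LocalEven.IsoSylow.Wreath
import Cfsg.Agent.Lib.Transfer.YoshidaTransfer

/-!
A Sylow three-subgroup of maximal class at an isolated element has odd order exponent.
-/

set_option autoImplicit false
set_option linter.unusedSectionVars false
set_option linter.style.haveILetI false

namespace CfsgLib.LocalEven.IsoSylow

open Cfsg Subgroup
open scoped commutatorElement

/-- An automorphism inverting `R / R'` acts on `γ_i / γ_(i+1)` as `(-1) ^ (i + 1)`. -/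
theorem layer_action {R : Type*} [Group R] (σ : MulAut R) (hσ : ∀ a, a * σ a ∈ commutator R)
    (i : ℕ) : ∀ u ∈ (⊤ : Subgroup R).lowerCentralSeries i,
      (Even i → u * σ u ∈ (⊤ : Subgroup R).lowerCentralSeries (i + 1)) ∧
      (Odd i → u⁻¹ * σ u ∈ (⊤ : Subgroup R).lowerCentralSeries (i + 1)) := by
  induction i with
  | zero =>
    intro u _
    exact ⟨fun _ => by rw [Subgroup.top_lowerCentralSeries_one]; exact hσ u,
      fun h => absurd h (by simp)⟩
  | succ i ih =>
    set G₁ := (⊤ : Subgroup R).lowerCentralSeries (i + 1) with hG₁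
    set N := (⊤ : Subgroup R).lowerCentralSeries (i + 2) with hN
    have hNeq : N = ⁅G₁, (⊤ : Subgroup R)⁆ := Subgroup.lowerCentralSeries_succ _ _
    have hG₁eq : G₁ = ⁅(⊤ : Subgroup R).lowerCentralSeries i, (⊤ : Subgroup R)⁆ :=
      Subgroup.lowerCentralSeries_succ _ _
    haveI : N.Normal := hN ▸ inferInstance
    set π := QuotientGroup.mk' N
    have hπ : Function.Surjective π := QuotientGroup.mk'_surjective N
    have hcen : ∀ u ∈ G₁, π u ∈ center (R ⧸ N) := fun u hu => Subgroup.mem_center_iff.2 fun w => by
      obtain ⟨v, rfl⟩ := hπ w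
      refine (commutatorElement_eq_one_iff_mul_comm.1 ?_).symm
      rw [← map_commutatorElement]
      exact (QuotientGroup.eq_one_iff _).2 (hNeq ▸ commutator_mem_commutator hu (mem_top v))
    set U := ((⊤ : Subgroup R).lowerCentralSeries i).map π
    have h1 : ⁅⁅U, (⊤ : Subgroup (R ⧸ N))⁆, (⊤ : Subgroup (R ⧸ N))⁆ = ⊥ := by
      rw [← Subgroup.map_top_of_surjective π hπ, ← Subgroup.map_commutator,
        ← Subgroup.map_commutator, ← hG₁eq, ← hNeq, QuotientGroup.map_mk'_self]
    have hder : ∀ d ∈ commutator R, ∀ a ∈ (⊤ : Subgroup R).lowerCentralSeries i,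
        Commute (π a) (π d) := by
      intro d hd a ha
      have h3 := Subgroup.commutator_commutator_eq_bot_of_rotate (H₁ := (⊤ : Subgroup (R ⧸ N)))
        (H₂ := ⊤) (H₃ := U) (by rw [Subgroup.commutator_comm (⊤ : Subgroup (R ⧸ N)) U]; exact h1) h1
      rw [← Subgroup.map_top_of_surjective π hπ, ← Subgroup.map_commutator,
        Subgroup.commutator_eq_bot_iff_le_centralizer] at h3
      exact Subgroup.mem_centralizer_iff.1
        (h3 (Subgroup.mem_map_of_mem π (show d ∈ ⁅(⊤ : Subgroup R), ⊤⁆ from hd))) (π a)
        (Subgroup.mem_map_of_mem π ha)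
    have hcomm : ∀ a ∈ (⊤ : Subgroup R).lowerCentralSeries i, ∀ b,
        ⁅π a, π b⁆ ∈ center (R ⧸ N) := fun a ha b => by
      rw [← map_commutatorElement]
      exact hcen _ (hG₁eq ▸ commutator_mem_commutator ha (mem_top b))
    -- on a generator
    have hgen : ∀ a ∈ (⊤ : Subgroup R).lowerCentralSeries i, ∀ b : R,
        (Even i → π (σ ⁅a, b⁆) = π ⁅a, b⁆) ∧ (Odd i → π (σ ⁅a, b⁆) = (π ⁅a, b⁆)⁻¹) := by
      intro a ha b
      have hd : b * σ b ∈ commutator R := hσ b
      have key : ∀ a' ∈ (⊤ : Subgroup R).lowerCentralSeries i, ∀ c ∈ G₁,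
          π ⁅a' * c, σ b⁆ = ⁅π a', π b⁆⁻¹ := by
        intro a' ha' c hc
        have hb : σ b = b⁻¹ * (b * σ b) := by group
        have h2 : ⁅π a' * π c, π (σ b)⁆ = ⁅π a', π (σ b)⁆ := by
          have hc' := Subgroup.mem_center_iff.1 (hcen c hc)
          rw [commutatorElement_def, commutatorElement_def]
          calc π a' * π c * π (σ b) * (π a' * π c)⁻¹ * (π (σ b))⁻¹
              = π a' * (π c * π (σ b) * (π c)⁻¹) * (π a')⁻¹ * (π (σ b))⁻¹ := by group
            _ = _ := by rw [← hc', mul_inv_cancel_right]
        have h3 : ⁅π a', π (σ b)⁆ = ⁅π a', π b⁻¹⁆ := by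
          rw [hb, map_mul]
          have hd' : π (b * σ b) * (π a')⁻¹ * (π (b * σ b))⁻¹ = (π a')⁻¹ := by
            rw [← (hder _ hd a' ha').inv_left.eq, mul_inv_cancel_right]
          rw [commutatorElement_def, commutatorElement_def]
          calc π a' * (π b⁻¹ * π (b * σ b)) * (π a')⁻¹ * (π b⁻¹ * π (b * σ b))⁻¹
              = π a' * π b⁻¹ * (π (b * σ b) * (π a')⁻¹ * (π (b * σ b))⁻¹) * (π b⁻¹)⁻¹ := by group
            _ = _ := by rw [hd']
        have h4 : ⁅π a', π b⁻¹⁆ = ⁅π a', π b⁆⁻¹ := by
          refine eq_inv_of_mul_eq_one_left ?_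
          rw [← CfsgLib.PGroups.commutator_mul_right_of_central (hcomm a' ha' b), ← map_mul,
            inv_mul_cancel, map_one, commutatorElement_one_right]
        rw [map_commutatorElement, map_mul, h2, h3, h4]
      constructor
      · intro he
        have hc : a * σ a ∈ G₁ := (ih a ha).1 he
        rw [map_commutatorElement, show σ a = a⁻¹ * (a * σ a) by group,
          key a⁻¹ (inv_mem ha) _ hc, map_commutatorElement, map_inv]
        refine inv_eq_of_mul_eq_one_left ?_
        rw [← CfsgLib.PGroups.commutator_mul_left_of_central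
            (by rw [← map_inv]; exact hcomm _ (inv_mem ha) b), mul_inv_cancel,
          commutatorElement_one_left]
      · intro ho
        have hc : a⁻¹ * σ a ∈ G₁ := (ih a ha).2 ho
        rw [map_commutatorElement, show σ a = a * (a⁻¹ * σ a) by group, key a ha _ hc,
          map_commutatorElement]
    intro u hu
    constructor
    · intro he
      have ho : Odd i := by
        rcases Nat.even_or_odd i with h | h
        · exact absurd he (by simp [Nat.even_add_one, h])
        · exact h
      let K : Subgroup R :=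
        { carrier := {v | π v ∈ center (R ⧸ N) ∧ π (σ v) = (π v)⁻¹}
          one_mem' := ⟨by simp, by simp⟩
          mul_mem' := fun {v w} hv hw => ⟨by rw [map_mul]; exact mul_mem hv.1 hw.1, by
            rw [map_mul, map_mul, map_mul, hv.2, hw.2, mul_inv_rev,
              Subgroup.mem_center_iff.1 (inv_mem hv.1) (π w)⁻¹]⟩
          inv_mem' := fun {v} hv => ⟨by rw [map_inv]; exact inv_mem hv.1, by
            rw [map_inv, map_inv, map_inv, hv.2]⟩ }
      have hle : G₁ ≤ K := by
        rw [hG₁eq, commutator_le]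
        exact fun a ha b _ => ⟨hcen _ (hG₁eq ▸ commutator_mem_commutator ha (mem_top b)),
          (hgen a ha b).2 ho⟩
      refine (QuotientGroup.eq_one_iff _).1 ?_
      show π _ = 1
      rw [map_mul, (hle hu).2, mul_inv_cancel]
    · intro ho
      have he : Even i := by
        rcases Nat.even_or_odd i with h | h
        · exact h
        · exact absurd ho (by simp [Nat.odd_add_one, h])
      let K : Subgroup R :=
        { carrier := {v | π (σ v) = π v}
          one_mem' := by simp
          mul_mem' := fun {v w} (hv : π (σ v) = π v) (hw : π (σ w) = π w) => by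
            show π (σ (v * w)) = π (v * w)
            rw [map_mul, map_mul, map_mul, hv, hw]
          inv_mem' := fun {v} (hv : π (σ v) = π v) => by
            show π (σ v⁻¹) = π v⁻¹
            rw [map_inv, map_inv, map_inv, hv] }
      have hle : G₁ ≤ K := by
        rw [hG₁eq, commutator_le]
        exact fun a ha b _ => (hgen a ha b).1 he
      refine (QuotientGroup.eq_one_iff _).1 ?_
      show π _ = 1
      rw [map_mul, map_inv, show π (σ u) = π u from hle hu, inv_mul_cancel]

/-- An elementary abelian subgroup of order 27 in the symmetric group on nine points. -/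
theorem exists_elementary_perm : ∃ A : Subgroup (Equiv.Perm (Fin (3 ^ 2))),
    IsElementaryAbelian 3 A ∧ Nat.card A = 3 ^ 3 := by
  have e : Fin 3 × ZMod 3 ≃ Fin (3 ^ 2) := finProdFinEquiv
  let T : (Fin 3 → Multiplicative (ZMod 3)) →* Equiv.Perm (Fin (3 ^ 2)) :=
    (e.permCongrHom.toMonoidHom).comp
      { toFun := fun a =>
          { toFun := fun q => (q.1, q.2 + (a q.1).toAdd)
            invFun := fun q => (q.1, q.2 - (a q.1).toAdd)
            left_inv := fun q => by simp
            right_inv := fun q => by simp }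
        map_one' := by ext q <;> simp
        map_mul' := fun a b => by ext q <;> simp [add_comm, add_left_comm] }
  have hinj : Function.Injective T := fun a b h => by
    funext i
    have h2 := (e.permCongrHom.injective h)
    have h3 := congrArg (fun π : Equiv.Perm (Fin 3 × ZMod 3) => (π (i, 0)).2) h2
    simpa using h3
  refine ⟨T.range, CfsgLib.Base.isElementaryAbelian_iff.2 ⟨?_, ?_⟩, ?_⟩
  · rintro _ ⟨a, rfl⟩ _ ⟨b, rfl⟩
    rw [← map_mul, ← map_mul, mul_comm]
  · rintro _ ⟨a, rfl⟩
    rw [← map_pow, show a ^ 3 = 1 from funext fun i => by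
      show a i ^ 3 = 1
      have := pow_card_eq_one' (G := Multiplicative (ZMod 3)) (x := a i)
      simpa using this, map_one]
  · rw [← Nat.card_congr (MonoidHom.ofInjective hinj).toEquiv, Nat.card_fun]
    simp

namespace Setting

variable {L : Type*} [Group L] [Finite L] [Fact (Nat.Prime 3)] {P : Sylow 3 L} {x : L}
  (S : Setting P x)
include S

/-- Maximal class and even exponent of the order is impossible. -/
theorem maxClass_even {n : ℕ} (hn : 4 ≤ n) (heven : Even n)
    (hrk : PRankLE 3 2 ↥(P : Subgroup L)) (hcard : Nat.card (P : Subgroup L) = 3 ^ n)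
    (hcl : Group.nilpotencyClass ↥(P : Subgroup L) = n - 1) : False := by
  classical
  set R := ↥(P : Subgroup L)
  have hR : IsPGroup 3 R := P.2
  haveI := hR.isNilpotent
  have hidx : (commutator R).index = 3 ^ 2 :=
    CfsgLib.PGroups.index_commutator_of_maximalClass (by omega) hcard hcl
  set N := normalizer ((P : Subgroup L) : Set L) with hN
  -- the normalizer controls transfer
  have hPN : (P : Subgroup L) ≤ ⁅N, N⁆ := by
    by_contra hne
    have hP' : (P : Subgroup L) ⊓ commutator L = (P : Subgroup L) := by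
      rw [S.perfect, inf_top_eq]
    obtain ⟨W, f, hf⟩ := CfsgLib.Transfer.exists_wreath_image P (by
      rw [hP']
      exact fun h => hne (inf_eq_left.1 h.symm))
    obtain ⟨A, hA, hA3⟩ := exists_elementary_perm
    obtain ⟨W', hW'⟩ := (CfsgLib.Base.isPGroup_of_isElementaryAbelian hA).exists_le_sylow
    set ew := Sylow.equiv W' W
    have hW4 : Nat.card (W : Subgroup (Equiv.Perm (Fin (3 ^ 2)))) = 3 ^ 4 := by
      rw [W.card_eq_multiplicity, Nat.card_perm, Nat.card_fin]
      have h4 : (Nat.factorial (3 ^ 2)).factorization 3 = 4 := by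
        rw [show Nat.factorial (3 ^ 2) = 3 ^ 4 * 4480 by decide,
          Nat.factorization_mul (by norm_num) (by norm_num), Finsupp.add_apply,
          Nat.Prime.factorization_pow Nat.prime_three,
          Nat.factorization_eq_zero_of_not_dvd (by norm_num : ¬ 3 ∣ 4480)]
        simp
      rw [h4]
    refine no_image (p := 3) (by norm_num) hR hrk hidx f hf
      ((A.subgroupOf (W' : Subgroup _)).map ew.toMonoidHom)
      (CfsgLib.Base.isElementaryAbelian_map _ (CfsgLib.Base.isElementaryAbelian_subgroupOf hA _))
      ?_ hW4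
    rw [Nat.card_congr (equivMapOfInjective _ _ ew.injective).symm.toEquiv,
      Nat.card_congr (Subgroup.subgroupOfEquivOfLe hW').toEquiv, hA3]
  -- the invariant line
  obtain ⟨E, hEn, -, -, hEc⟩ := CfsgLib.PGroups.exists_normal_card_eq (p := 3) hR
    (N := (⊥ : Subgroup R)) (M := ⊤) bot_le (k := 2)
    (by rw [Subgroup.card_bot]; norm_num)
    (by rw [Subgroup.card_top, hcard]; exact Nat.pow_le_pow_right (by norm_num) (by omega))
  haveI := hEn
  have hEL : E = (⊤ : Subgroup R).lowerCentralSeries (n - 3) := by
    have hEi : E.index = 3 ^ (n - 2) := by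
      have := E.card_mul_index
      rw [hEc, hcard, show 3 ^ n = 3 ^ 2 * 3 ^ (n - 2) by rw [← pow_add]; congr 1; omega] at this
      exact Nat.eq_of_mul_eq_mul_left (by norm_num) this
    have := CfsgLib.PGroups.eq_lowerCentralSeries_of_maximalClass (p := 3) (by omega) hcard hcl
      (r := n - 2) (by omega) hEi
    rwa [show n - 2 - 1 = n - 3 by omega] at this
  set K := centralizer (E : Set R) with hK
  obtain ⟨hZc, -, -⟩ := CfsgLib.PGroups.center_of_maximalClass (by omega : 3 ≤ n) hcard hcl
  have hKne : K ≠ ⊤ := fun h => by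
    have : E ≤ center R := fun u hu => Subgroup.mem_center_iff.2 fun v =>
      ((Subgroup.mem_centralizer_iff.1 ((hK ▸ h ▸ mem_top v : v ∈ centralizer (E : Set R))) u hu)).symm
    have := Subgroup.card_le_of_le this
    omega
  have hKi : K.index = 3 := by
    have h : K.index ≤ 3 := by simpa using CfsgLib.PGroups.index_centralizer_le hR 2 hEc
    obtain ⟨i, hi⟩ := hR.index K
    rcases i with _ | _ | i
    · exact absurd (Subgroup.index_eq_one.1 (hi.trans (pow_zero 3))) hKne
    · simpa using hi
    · exfalso
      rw [hi] at h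
      have h9 : 3 ^ 2 ≤ 3 := (Nat.pow_le_pow_right (by norm_num : 0 < 3) (by omega : 2 ≤ i + 2)).trans h
      norm_num at h9
  have hder : commutator R ≤ K := by
    haveI : IsCyclic (R ⧸ K) := isCyclic_of_prime_card (p := 3) (by rw [← Subgroup.index, hKi])
    rw [_root_.commutator_def, commutator_le]
    intro a _ b _
    refine (QuotientGroup.eq_one_iff _).1 ?_
    show QuotientGroup.mk' K ⁅a, b⁆ = 1
    rw [map_commutatorElement, commutatorElement_eq_one_iff_mul_comm]
    exact (IsCyclic.isMulCommutative (α := R ⧸ K)).is_comm.comm _ _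
  -- the action on the abelianization
  let cj : N →* MulAut R := (P : Subgroup L).normalizerMonoidHom
  have hcj : ∀ (m : N) (a : R), ((cj m a : R) : L) = (m : L) * a * (m : L)⁻¹ := fun _ _ => rfl
  let act : N →* MulAut (Abelianization R) :=
    { toFun := fun m => (cj m).abelianizationCongr
      map_one' := by
        rw [map_one]
        refine MulEquiv.ext fun v => ?_
        induction v using QuotientGroup.induction_on with
        | _ a => rfl
      map_mul' := fun m m' => by
        rw [map_mul]
        refine MulEquiv.ext fun v => ?_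
        induction v using QuotientGroup.induction_on with
        | _ a => rfl }
  have hact : ∀ (m : N) (a : R), act m (Abelianization.of a) = Abelianization.of (cj m a) :=
    fun _ _ => rfl
  have hab3 : ∀ v : Abelianization R, v ^ 3 = 1 := by
    intro v
    induction v using QuotientGroup.induction_on with
    | _ a =>
      refine (QuotientGroup.eq_one_iff (a ^ 3)).2 ?_
      rw [← CfsgLib.PGroups.frattini_eq_commutator hR (fun h => by
        have hb : commutator R = ⊥ := by
          rw [_root_.commutator_def, Subgroup.commutator_eq_bot_iff_le_centralizer]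
          exact fun u _ => Subgroup.mem_centralizer_iff.2 fun w _ => h.is_comm.comm w u
        have hm := S.mem_commutator
        rw [hb, Subgroup.mem_bot] at hm
        exact S.ne_one (congrArg Subtype.val hm)) hidx]
      exact CfsgLib.PGroups.pow_mem_frattini hR a
  have hab9 : Nat.card (Abelianization R) = 9 := by
    show Nat.card (R ⧸ commutator R) = 9
    rw [← Subgroup.index, hidx]; norm_num
  set Kb := K.map (Abelianization.of : R →* Abelianization R) with hKb
  have hKb3 : Nat.card Kb = 3 := by
    have h1 : Kb.index = 3 := by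
      rw [hKb, Subgroup.index_map_eq (f := (Abelianization.of : R →* Abelianization R)) K
        (QuotientGroup.mk'_surjective _) (by rw [Abelianization.ker_of]; exact hder), hKi]
    have h2 := Kb.card_mul_index
    rw [h1, hab9] at h2
    omega
  have hKinv : ∀ f ∈ Set.range act, ∀ v ∈ Kb, f v ∈ Kb := by
    rintro _ ⟨m, rfl⟩ _ ⟨a, ha, rfl⟩
    refine ⟨cj m a, Subgroup.mem_centralizer_iff.2 fun e he => ?_, (hact m a).symm⟩
    have hmap : E.map (cj m).toMonoidHom = E := by
      rw [hEL, Subgroup.map_lowerCentralSeries, Subgroup.map_top_of_surjective (cj m).toMonoidHom (cj m).surjective]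
    obtain ⟨e', he', rfl⟩ := hmap.ge he
    show cj m e' * cj m a = cj m a * cj m e'
    rw [← map_mul, ← map_mul, Subgroup.mem_centralizer_iff.1 ha e' he']
  have hord : ∀ f ∈ Set.range act, ∃ j : ℕ, Nat.Coprime j 3 ∧ f ^ j = 1 := by
    rintro _ ⟨m, rfl⟩
    haveI : ((P : Subgroup L).subgroupOf N).Normal := Subgroup.normal_in_normalizer
    refine ⟨((P : Subgroup L).subgroupOf N).index,
      ((Nat.prime_three.coprime_iff_not_dvd).2 fun h =>
        P.not_dvd_index (h.trans (Subgroup.relIndex_dvd_index_of_le le_normalizer))).symm, ?_⟩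
    rw [← map_pow]
    set w := m ^ ((P : Subgroup L).subgroupOf N).index
    have hw : (w : L) ∈ (P : Subgroup L) := Subgroup.mem_subgroupOf.1
      (Subgroup.pow_index_mem _ m)
    refine MulEquiv.ext fun v => ?_
    induction v using QuotientGroup.induction_on with
    | _ a =>
      show Abelianization.of (cj w a) = Abelianization.of a
      have e : cj w a = (⟨w, hw⟩ : R) * a * (⟨w, hw⟩ : R)⁻¹ := Subtype.ext (hcj w a)
      rw [e, map_mul, map_mul, map_inv, mul_comm, inv_mul_cancel_left]
  rcases plane_dichotomy hab9 hab3 Kb hKb3 (Set.range act)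
      (by rintro _ ⟨a, rfl⟩ _ ⟨b, rfl⟩; exact ⟨a * b, map_mul act a b⟩) hKinv hord with
    ⟨_, ⟨m, rfl⟩, hinv⟩ | ⟨φ, ⟨v₀, hv₀⟩, hφ⟩
  · -- an element inverting the abelianization inverts the centre
    have hσ : ∀ a, a * cj m a ∈ commutator R := fun a => by
      rw [← Abelianization.ker_of, MonoidHom.mem_ker, map_mul, ← hact, hinv, mul_inv_cancel]
    set xc : R := ⟨x, S.mem⟩
    have hbot : (⊤ : Subgroup R).lowerCentralSeries (n - 2 + 1) = ⊥ := by
      rw [Subgroup.lowerCentralSeries_eq_bot_iff_nilpotencyClass_le, hcl]; omega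
    have hx2 : xc ∈ (⊤ : Subgroup R).lowerCentralSeries (n - 2) := by
      have hle : (⊤ : Subgroup R).lowerCentralSeries (n - 2) ≤ center R := fun u hu =>
        Subgroup.mem_center_iff.2 fun v => by
          have h := commutator_mem_commutator hu (mem_top v)
          rw [← Subgroup.lowerCentralSeries_succ, hbot, Subgroup.mem_bot] at h
          exact (commutatorElement_eq_one_iff_mul_comm.1 h).symm
      have hne : (⊤ : Subgroup R).lowerCentralSeries (n - 2) ≠ ⊥ := fun h => by
        rw [Subgroup.lowerCentralSeries_eq_bot_iff_nilpotencyClass_le, hcl] at h; omega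
      have := Subgroup.eq_of_le_of_card_ge hle (by
        rw [hZc]; exact Nat.le_of_dvd Nat.card_pos (CfsgLib.PGroups.dvd_card_of_ne_bot hR hne))
      rw [this]; exact S.mem_center
    have hfix : cj m xc = xc := Subtype.ext (S.conj_eq m
      ((Subgroup.mem_normalizer_iff.1 m.2 _).1 S.mem))
    have h1 := (layer_action (cj m) hσ (n - 2) xc hx2).1 (by
      obtain ⟨t, rfl⟩ := heven
      exact ⟨t - 1, by omega⟩)
    rw [hbot, Subgroup.mem_bot, hfix] at h1
    have h2 : x ^ 2 = 1 := by rw [pow_two]; exact congrArg Subtype.val h1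
    have h3 := orderOf_dvd_of_pow_eq_one h2
    rw [S.ord] at h3
    norm_num at h3
  · -- a homomorphism constant on the orbits of the normalizer is trivial
    refine hv₀ ?_
    obtain ⟨a, rfl⟩ : ∃ a : R, Abelianization.of a = v₀ := QuotientGroup.mk'_surjective _ v₀
    let PN : Sylow 3 N := P.subtype le_normalizer
    let ψ : ↥(PN : Subgroup N) →* Abelianization R :=
      (φ.comp Abelianization.of).comp
        ((Subgroup.subgroupOfEquivOfLe (le_normalizer : (P : Subgroup L) ≤ N)).toMonoidHom)
    have hfoc : (PN : Subgroup N).focalSubgroup ≤ ψ.ker.map (PN : Subgroup N).subtype := by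
      rw [Subgroup.focalSubgroup_def, Subgroup.closure_le]
      rintro z ⟨hz, c, hc, u, rfl⟩
      refine ⟨⟨_, hz⟩, ?_, rfl⟩
      have hc' : (c : L) ∈ (P : Subgroup L) := hc
      rw [SetLike.mem_coe, MonoidHom.mem_ker]
      show φ (Abelianization.of (⟨((⁅c, u⁆ : N) : L), hz⟩ : R)) = 1
      have e : (⟨((⁅c, u⁆ : N) : L), hz⟩ : R) = ⟨(c : L), hc'⟩ * (cj u ⟨(c : L), hc'⟩)⁻¹ :=
        Subtype.ext (by
          show ((⁅c, u⁆ : N) : L) = (c : L) * ((cj u ⟨(c : L), hc'⟩ : R) : L)⁻¹
          rw [hcj]
          simp [commutatorElement_def, mul_assoc])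
      rw [e, map_mul, map_inv, map_mul, map_inv, ← hact, hφ _ ⟨u, rfl⟩, mul_inv_cancel]
    have hmem : (⟨a, le_normalizer a.2⟩ : N) ∈ (PN : Subgroup N).focalSubgroup := by
      rw [← commutator_inf_eq_focalSubgroup]
      refine ⟨?_, (a.2 : (a : L) ∈ (P : Subgroup L))⟩
      have := hPN a.2
      rw [← Subgroup.map_subtype_commutator] at this
      exact (Subgroup.mem_map_iff_mem N.subtype_injective).1 (this : N.subtype ⟨a, le_normalizer a.2⟩ ∈ _)
    obtain ⟨b, hb, hba⟩ := hfoc hmem
    have hb' : ψ b = 1 := hb
    have : (Subgroup.subgroupOfEquivOfLe (le_normalizer : (P : Subgroup L) ≤ N)).toMonoidHom b = a :=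
      Subtype.ext (congrArg (fun t : N => (t : L)) hba)
    rw [← this]
    exact hb'

end Setting

end CfsgLib.LocalEven.IsoSylow
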