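import Cfsg.Agent.Lib.LocalEven.IsoSylow.Families
import Cfsg.Agent.Lib.LocalEven.IsoSylow.MaxClass
import Cfsg.Agent.Lib.LocalEven.IsoRankTwo
import Cfsg.Agent.S3888

/-!
The Sylow subgroup of `F*(G)` for an isolated element in rank two.
-/

set_option autoImplicit false
set_option linter.unusedSectionVars false
set_option linter.style.haveILetI false

namespace CfsgLib.LocalEven.IsoSylow

open Cfsg Subgroup
open scoped commutatorElement

variable {p : ℕ} [hp : Fact p.Prime]

theorem Setting.structure_of {L : Type*} [Group L] [Finite L] {P : Sylow p L} {x : L}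
    (S : Setting P x) (hp2 : p ≠ 2) (hrk : PRankLE p 2 ↥(P : Subgroup L)) :
    (IsExtraspecial p ↥(P : Subgroup L) ∧ Nat.card (P : Subgroup L) = p ^ 3 ∧
        ∀ y ∈ (P : Subgroup L), y ^ p = 1) ∨
      (p = 3 ∧ ∃ k : ℕ, 2 ≤ k ∧ Nat.card (P : Subgroup L) = 3 ^ (2 * k + 1) ∧
        ∃ _ : Group.IsNilpotent ↥(P : Subgroup L),
          Group.nilpotencyClass ↥(P : Subgroup L) = 2 * k) := by
  haveI hnil : Group.IsNilpotent ↥(P : Subgroup L) := P.2.isNilpotent
  have hexpo : (∀ a : ↥(P : Subgroup L), a ^ p = 1) →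
      IsExtraspecial p ↥(P : Subgroup L) ∧ Nat.card (P : Subgroup L) = p ^ 3 ∧
        ∀ y ∈ (P : Subgroup L), y ^ p = 1 := fun h =>
    ⟨(S.extraspecial_of_exponent hrk h).1, (S.extraspecial_of_exponent hrk h).2,
      fun y hy => congrArg Subtype.val (h ⟨y, hy⟩)⟩
  obtain ⟨n, hn⟩ := IsPGroup.iff_card.1 P.2
  -- maximal class
  have hmax : p = 3 → 3 ≤ n →
      (⊤ : Subgroup ↥(P : Subgroup L)).lowerCentralSeries (n - 2) ≠ ⊥ →
      (IsExtraspecial p ↥(P : Subgroup L) ∧ Nat.card (P : Subgroup L) = p ^ 3 ∧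
        ∀ y ∈ (P : Subgroup L), y ^ p = 1) ∨
      (∃ k : ℕ, 2 ≤ k ∧ n = 2 * k + 1 ∧ Group.nilpotencyClass ↥(P : Subgroup L) = 2 * k) := by
    intro h3 hn3 hl
    subst h3
    have hcl : Group.nilpotencyClass ↥(P : Subgroup L) = n - 1 := by
      have h1 := CfsgLib.PGroups.nilpotencyClass_le_sub_one (p := 3) (by omega : 2 ≤ n) hn
      have h2 : ¬ Group.nilpotencyClass ↥(P : Subgroup L) ≤ n - 2 := fun h =>
        hl (Subgroup.lowerCentralSeries_eq_bot_iff_nilpotencyClass_le.2 h)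
      omega
    rcases Nat.lt_or_ge n 4 with h4 | h4
    · obtain rfl : n = 3 := by omega
      have hcyc := CfsgLib.PGroups.center_of_maximalClass (by omega : 3 ≤ 3) hn hcl
      have hc : ∀ a b : ↥(P : Subgroup L), ⁅a, b⁆ ∈ center ↥(P : Subgroup L) := fun a b => by
        refine Subgroup.mem_center_iff.2 fun g => ?_
        have h := commutator_mem_commutator
          (commutator_mem_commutator (mem_top a) (mem_top b)) (mem_top g)
        rw [← _root_.commutator_def, ← Subgroup.top_lowerCentralSeries_one,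
          ← Subgroup.lowerCentralSeries_succ,
          Subgroup.lowerCentralSeries_eq_bot_iff_nilpotencyClass_le.2 (by omega), Subgroup.mem_bot]
          at h
        exact (commutatorElement_eq_one_iff_mul_comm.1 h).symm
      have he : ∀ a b : ↥(P : Subgroup L), ⁅a, b⁆ ^ 3 = 1 := fun a b => by
        have := pow_card_eq_one' (G := center ↥(P : Subgroup L)) (x := ⟨⁅a, b⁆, hc a b⟩)
        rw [hcyc.1] at this
        exact congrArg Subtype.val this
      exact Or.inl (hexpo (S.exponent_of_classTwo hp2 hrk hc he))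
    · rcases Nat.even_or_odd n with he | ho
      · exact (S.maxClass_even h4 he hrk hn hcl).elim
      · obtain ⟨k, rfl⟩ := ho
        exact Or.inr ⟨k, by omega, rfl, by omega⟩
  have hfin : p = 3 →
      (IsExtraspecial p ↥(P : Subgroup L) ∧ Nat.card (P : Subgroup L) = p ^ 3 ∧
        ∀ y ∈ (P : Subgroup L), y ^ p = 1) ∨
      (∃ k : ℕ, 2 ≤ k ∧ n = 2 * k + 1 ∧ Group.nilpotencyClass ↥(P : Subgroup L) = 2 * k) →
      _ := fun h3 h => h.imp id fun ⟨k, hk, hnk, hkc⟩ =>
    (⟨h3, k, hk, by rw [hn, hnk, h3], hnil, hkc⟩ : p = 3 ∧ ∃ k : ℕ, 2 ≤ k ∧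
      Nat.card (P : Subgroup L) = 3 ^ (2 * k + 1) ∧ ∃ _ : Group.IsNilpotent ↥(P : Subgroup L),
        Group.nilpotencyClass ↥(P : Subgroup L) = 2 * k)
  rcases Cfsg.Agent.S3888.result hp2 n hn hrk with h | ⟨h3, u, v, z, hg, -, -, hz, huz, hvz, huv⟩ |
      ⟨h4, s, u, v, z, hs, hg, hu, hv, hz, hvz, huv, huz⟩ | ⟨h3, h2, hl⟩
  · exact (S.not_isMetacyclic hp2 h).elim
  · exact Or.inl (hexpo (S.family_one hp2 hrk h3 hg hz huz hvz huv))
  · obtain ⟨h3, hn4, hl⟩ := S.family_two hp2 hrk h4 hn hs hg hu hv hz hvz huv huz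
    subst hn4
    exact hfin h3 (hmax h3 (by omega) hl)
  · refine hfin h3 (hmax h3 ?_ hl)
    by_contra hlt
    obtain rfl : n = 2 := by omega
    obtain ⟨a, b, hab⟩ := S.exists_not_commute
    exact hab ((IsPGroup.isMulCommutative_of_card_eq_prime_sq hn).is_comm.comm a b)

/-- The dichotomy for a simple subgroup of a group with an isolated element. -/
theorem main_aux {G : Type*} [Group G] [Finite G] (hp2 : p ≠ 2) (hrank : PRankLE p 2 G) (x : G)
    (hx : orderOf x = p) (hiso : IsIsolated x) (L : Subgroup G) [IsSimpleGroup L]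
    (hnab : ¬ IsMulCommutative L) (P : Sylow p L) :
    ((∀ g : G, g * x * g⁻¹ ∉ ((P : Subgroup L).map L.subtype)) ∧
      IsCyclic ↥(P : Subgroup L)) ∨
    ((∃ g : G, g * x * g⁻¹ ∈ ((P : Subgroup L).map L.subtype)) ∧
      ((IsExtraspecial p ↥(P : Subgroup L) ∧ Nat.card (P : Subgroup L) = p ^ 3 ∧
          ∀ y ∈ (P : Subgroup L), y ^ p = 1) ∨
       (p = 3 ∧ ∃ k : ℕ, 2 ≤ k ∧ Nat.card (P : Subgroup L) = 3 ^ (2 * k + 1) ∧
          ∃ _ : Group.IsNilpotent ↥(P : Subgroup L),
            Group.nilpotencyClass ↥(P : Subgroup L) = 2 * k))) := by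
  have hrkP : PRankLE p 2 ↥(P : Subgroup L) :=
    Base.pRankLE_subgroup (Base.pRankLE_subgroup hrank L) _
  by_cases hex : ∃ g : G, g * x * g⁻¹ ∈ (P : Subgroup L).map L.subtype
  · refine Or.inr ⟨hex, ?_⟩
    obtain ⟨g, y, hy, hyg⟩ := hex
    have hyo : orderOf y = p := by
      rw [← Subgroup.orderOf_coe, show (y : G) = g * x * g⁻¹ from hyg]
      exact (orderOf_injective (MulAut.conj g).toMonoidHom (MulAut.conj g).injective x).trans hx
    have hyi : IsIsolated y := fun h hc => by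
      refine Subtype.ext ?_
      show (h : G) * y * (h : G)⁻¹ = y
      have hc' : Commute (y : G) ((h : G) * y * (h : G)⁻¹) := hc.map L.subtype
      rw [show (y : G) = g * x * g⁻¹ from hyg] at hc' ⊢
      rw [show (h : G) * (g * x * g⁻¹) * (h : G)⁻¹ = ((h : G) * g) * x * ((h : G) * g)⁻¹ by group]
        at hc' ⊢
      exact (Iso.iso_conj hiso g ((h : G) * g) hc').symm
    have hperf : _root_.commutator L = ⊤ := by
      rcases (inferInstance : (_root_.commutator L).Normal).eq_bot_or_eq_top with h | h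
      · exact (hnab ⟨⟨fun a b => commutatorElement_eq_one_iff_mul_comm.1
          (Subgroup.mem_bot.1 (h ▸ commutator_mem_commutator (mem_top a) (mem_top b)))⟩⟩).elim
      · exact h
    exact (⟨hyo, hyi, hy, hperf⟩ : Setting P y).structure_of hp2 hrkP
  · push Not at hex
    refine Or.inl ⟨hex, ?_⟩
    by_contra hcyc
    obtain ⟨E, -, -, hE, hE2⟩ := CfsgLib.PLocal.exists_normal_elementary_sq hp2 P.2 ⊤ fun h =>
      hcyc (isCyclic_of_surjective (Subgroup.topEquiv (G := ↥(P : Subgroup L))).toMonoidHom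
        (Subgroup.topEquiv (G := ↥(P : Subgroup L))).surjective)
    set PG := (P : Subgroup L).map L.subtype with hPG
    obtain ⟨T, hT⟩ := (P.2.map L.subtype).exists_le_sylow
    obtain ⟨T₀, hT₀⟩ := (Iso.isPGroup_zpowers (p := p) (x := x) ⟨1, by rw [hx, pow_one]⟩).exists_le_sylow
    obtain ⟨c, hc⟩ := MulAction.exists_smul_eq G T₀ T
    have hyT : c * x * c⁻¹ ∈ (T : Subgroup G) := by
      rw [← hc]
      exact ⟨x, hT₀ (mem_zpowers x), rfl⟩
    have hiso' : IsIsolated (c * x * c⁻¹) := fun h hc' => by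
      rw [show h * (c * x * c⁻¹) * h⁻¹ = (h * c) * x * (h * c)⁻¹ by group] at hc' ⊢
      exact (Iso.iso_conj hiso c (h * c) hc').symm
    have hcen := Iso.le_centralizer hiso' T.2 hyT
    have hTP : ∀ u ∈ (T : Subgroup G), u ∈ L → u ∈ PG := by
      intro u huT huL
      have hle : (P : Subgroup L) ≤ (T : Subgroup G).subgroupOf L := fun w hw =>
        Subgroup.mem_subgroupOf.2 (hT ⟨w, hw, rfl⟩)
      exact ⟨⟨u, huL⟩, (P.3 (T.2.comap_subtype (K := L)) hle).le (Subgroup.mem_subgroupOf.2 huT),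
        rfl⟩
    have hyo : orderOf (c * x * c⁻¹) = p :=
      (orderOf_injective (MulAut.conj c).toMonoidHom (MulAut.conj c).injective x).trans hx
    set E' := E.map (L.subtype.comp (P : Subgroup L).subtype) with hE'
    have hE'e : IsElementaryAbelian p E' := Base.isElementaryAbelian_map _ hE
    have hE'P : E' ≤ PG := by
      rintro _ ⟨w, -, rfl⟩
      exact ⟨(w : L), w.2, rfl⟩
    have hsup := Base.isElementaryAbelian_sup hE'e
      (Base.isElementaryAbelian_zpowers (orderOf_dvd_iff_pow_eq_one.1 (dvd_of_eq hyo)))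
      (Subgroup.le_centralizer_iff.1 (Subgroup.zpowers_le.2 (Subgroup.mem_centralizer_iff.2
        fun w hw => Subgroup.mem_centralizer_singleton_iff.1 (hcen (hT (hE'P hw))))))
    have h2 : Nat.card E' = p ^ 2 := by
      rw [← hE2]
      exact (Nat.card_congr (equivMapOfInjective E _
        (L.subtype_injective.comp (P : Subgroup L).subtype_injective)).toEquiv).symm
    have h3 : E' = E' ⊔ zpowers (c * x * c⁻¹) := Subgroup.eq_of_le_of_card_ge le_sup_left
      (h2 ▸ Base.pRankLE_iff.1 hrank _ hsup)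
    exact hex c (hE'P (h3.ge (mem_sup_right (mem_zpowers _))))

end CfsgLib.LocalEven.IsoSylow
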