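import Cfsg.Agent.Lib.LocalEven.IsoSylow.Basic
import Cfsg.Agent.Lib.PGroups.Metacyclic
import Cfsg.Agent.Lib.PGroups.Commutator
import Cfsg.Agent.Lib.PGroups.SmallClassPower
import Cfsg.Agent.Lib.PLocal.PowerIndexMetacyclic
import Cfsg.Agent.Lib.PLocal.CyclicMaxApps
import Cfsg.Agent.Lib.OddOrder.RankTwoStructure
import Cfsg.Agent.S3771

/-!
Power homomorphisms into the centre for the `p`-groups of rank two, and what they say about the
Sylow subgroup at an isolated element.
-/

set_option autoImplicit false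
set_option linter.unusedSectionVars false
set_option linter.style.haveILetI false

namespace CfsgLib.LocalEven.IsoSylow

open Cfsg Subgroup
open scoped commutatorElement

variable {p : ℕ} [hp : Fact p.Prime]

/-- `∑_{t<j} (1 + r + ⋯ + r^(t-1))`. -/
def geomSum (r : ℤ) (j : ℕ) : ℤ := ∑ t ∈ Finset.range j, PGroups.geom r t

theorem geomSum_succ (r : ℤ) (j : ℕ) : geomSum r (j + 1) = geomSum r j + PGroups.geom r j :=
  Finset.sum_range_succ _ _

theorem geomSum_add (r : ℤ) (j l : ℕ) :
    geomSum r (j + l) = geomSum r j + l * PGroups.geom r j + r ^ j * geomSum r l := by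
  induction l with
  | zero => simp [geomSum]
  | succ l ih => rw [← add_assoc, geomSum_succ, ih, geomSum_succ, PGroups.geom_add]; push_cast; ring

theorem sub_one_mul_geomSum (r : ℤ) (j : ℕ) : (r - 1) * geomSum r j = PGroups.geom r j - j := by
  induction j with
  | zero => simp [geomSum]
  | succ j ih =>
    rw [geomSum_succ, mul_add, ih, mul_comm, PGroups.geom_mul_sub_one, PGroups.geom_succ]
    push_cast; ring

theorem dvd_geomSum (hp2 : p ≠ 2) {r : ℤ} (hr : (p : ℤ) ∣ r - 1) (m : ℕ) :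
    (p : ℤ) ^ m ∣ geomSum r (p ^ m) := by
  induction m with
  | zero => simp
  | succ m ih =>
    rcases Nat.eq_zero_or_pos m with rfl | hm
    · have h : ∀ j : ℕ, (p : ℤ) ∣ geomSum r j - (j.choose 2 : ℕ) := by
        intro j
        induction j with
        | zero => simp [geomSum]
        | succ j ihj =>
          have := dvd_add ihj (PGroups.dvd_geom_sub hr j)
          rw [geomSum_succ, show (j + 1).choose 2 = j + j.choose 2 by
            rw [Nat.choose_succ_succ, Nat.choose_one_right]]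
          refine this.trans (dvd_of_eq ?_)
          push_cast; ring
      have hc : p ∣ p.choose 2 := hp.out.dvd_choose_self two_ne_zero
        (lt_of_le_of_ne hp.out.two_le (Ne.symm hp2))
      have h1 := dvd_add (h p) (Int.natCast_dvd_natCast.2 hc)
      rw [sub_add_cancel] at h1
      simpa using h1
    · have key : ∀ u : ℕ, (p : ℤ) ^ (m + 1) ∣ geomSum r (u * p ^ m) - u * geomSum r (p ^ m) := by
        intro u
        induction u with
        | zero => simp [geomSum]
        | succ u ihu =>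
          rw [Nat.succ_mul, geomSum_add]
          have h1 : (p : ℤ) ^ (m + 1) ∣ ((p ^ m : ℕ) : ℤ) * PGroups.geom r (u * p ^ m) := by
            refine (pow_dvd_pow (p : ℤ) (by omega : m + 1 ≤ m + m)).trans ?_
            rw [pow_add, Nat.cast_pow]
            exact mul_dvd_mul_left _ ((PGroups.pow_dvd_geom_iff hp2 hr m _).2 (Dvd.intro_left u rfl))
          have h2 : (p : ℤ) ^ (m + 1) ∣ (r ^ (u * p ^ m) - 1) * geomSum r (p ^ m) := by
            rw [pow_succ']
            exact mul_dvd_mul (PGroups.dvd_sub_one_pow hr _) ih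
          have := dvd_add (dvd_add ihu h1) h2
          refine this.trans (dvd_of_eq ?_)
          push_cast; ring
      have h1 := key p
      have h2 : (p : ℤ) ^ (m + 1) ∣ (p : ℤ) * geomSum r (p ^ m) := by
        rw [pow_succ']; exact mul_dvd_mul_left _ ih
      have := dvd_add h1 h2
      rw [sub_add_cancel, ← pow_succ'] at this
      exact this

variable {R : Type*} [Group R]

/-- In a metacyclic group the `|R'|`-th power map is a homomorphism into the centre. -/
theorem metacyclic_pow_hom {a b n : ℕ} {x y : R} {r : ℤ} (M : PGroups.MetaPres p a b n x y r) :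
    (∀ g : R, g ^ p ^ n ∈ center R) ∧
      ∀ g h : R, (g * h) ^ p ^ n = g ^ p ^ n * h ^ p ^ n := by
  have hxe : ∀ {u v : ℤ}, (∃ k, u - v = k * (r - 1) ∧ (p : ℤ) ^ n ∣ k) → x ^ u = x ^ v := by
    rintro u v ⟨k, hk, hd⟩
    rw [← mul_inv_eq_one, ← zpow_sub, hk, M.comm_ord]
    exact hd
  have hpow : ∀ (i : ℤ) (j : ℕ),
      (x ^ i * y ^ j) ^ p ^ n = x ^ (i * (p ^ n : ℕ)) * y ^ (j * p ^ n) := by
    intro i j
    rw [M.pow_formula, hxe ⟨i * PGroups.geom r j * geomSum (r ^ j) (p ^ n), ?_, ?_⟩]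
    · rw [← mul_sub, ← sub_one_mul_geomSum, ← PGroups.geom_mul_sub_one]; ring
    · exact Dvd.dvd.mul_left (dvd_geomSum M.odd (PGroups.dvd_sub_one_pow M.rmod j) n) _
  have hcen : ∀ g : R, g ^ p ^ n ∈ center R := by
    intro g
    obtain ⟨i, j, rfl⟩ := M.mem g
    rw [hpow, M.mem_center_iff]
    exact ⟨Dvd.intro_left i (by push_cast; rfl), Dvd.intro_left j rfl⟩
  refine ⟨hcen, fun g h => ?_⟩
  obtain ⟨i, j, rfl⟩ := M.mem g
  obtain ⟨k, l, rfl⟩ := M.mem h
  have hy : Commute (y ^ (j * p ^ n)) (x ^ (k * (p ^ n : ℕ))) := by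
    have := hcen (x ^ (0 : ℤ) * y ^ j)
    rw [hpow, zero_mul, zpow_zero, one_mul] at this
    exact (Subgroup.mem_center_iff.1 this _).symm
  rw [M.mul_formula, hpow, hpow, hpow, add_mul, add_mul, zpow_add, pow_add,
    hxe (u := k * r ^ j * (p ^ n : ℕ)) (v := k * (p ^ n : ℕ))
      ⟨k * (p ^ n : ℕ) * PGroups.geom r j, by rw [mul_assoc (k * ((p ^ n : ℕ) : ℤ)), PGroups.geom_mul_sub_one]; ring,
        Dvd.dvd.mul_right (Dvd.intro_left k (by push_cast; rfl)) _⟩]
  calc x ^ (i * (p ^ n : ℕ)) * x ^ (k * (p ^ n : ℕ)) * (y ^ (j * p ^ n) * y ^ (l * p ^ n))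
      = x ^ (i * (p ^ n : ℕ)) * (x ^ (k * (p ^ n : ℕ)) * y ^ (j * p ^ n)) * y ^ (l * p ^ n) := by
        simp only [mul_assoc]
    _ = _ := by rw [← hy.eq]; simp only [mul_assoc]

/-- Class two with derived group of exponent `p`, `p` odd: `g ↦ g ^ p` is a central homomorphism. -/
theorem classTwo_pow_hom (hp2 : p ≠ 2) (hc : ∀ a b : R, ⁅a, b⁆ ∈ center R)
    (he : ∀ a b : R, ⁅a, b⁆ ^ p = 1) :
    (∀ g : R, g ^ p ∈ center R) ∧ ∀ g h : R, (g * h) ^ p = g ^ p * h ^ p := by
  refine ⟨fun g => Subgroup.mem_center_iff.2 fun h => ?_, fun g h => ?_⟩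
  · refine (commutatorElement_eq_one_iff_mul_comm.1 ?_).symm
    rw [PGroups.commutator_pow_left_of_central (hc g h), he]
  · obtain ⟨k, hk⟩ := hp.out.dvd_choose_self two_ne_zero
      (lt_of_le_of_ne hp.out.two_le (Ne.symm hp2))
    rw [PGroups.mul_pow_of_central (hc h g), hk, pow_mul, he, one_pow, mul_one]

theorem commutator_le_of_gens {T : Set R} (hT : closure T = ⊤) (N : Subgroup R) [N.Normal]
    (h : ∀ s ∈ T, ∀ t ∈ T, ⁅s, t⁆ ∈ N) : commutator R ≤ N := by
  set π := QuotientGroup.mk' N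
  have h1 : closure (π '' T) ≤ centralizer (π '' T) := by
    rw [closure_le]
    rintro _ ⟨s, hs, rfl⟩
    refine Subgroup.mem_centralizer_iff.2 ?_
    rintro _ ⟨t, ht, rfl⟩
    rw [← commutatorElement_eq_one_iff_mul_comm, ← map_commutatorElement]
    exact (QuotientGroup.eq_one_iff _).2 (h t ht s hs)
  rw [← MonoidHom.map_closure, hT, Subgroup.map_top_of_surjective π (QuotientGroup.mk'_surjective N)]
    at h1
  have h2 : ∀ v : R ⧸ N, v ∈ centralizer ((centralizer (π '' T) : Subgroup _) : Set (R ⧸ N)) := by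
    intro v
    have h3 : closure (π '' T) ≤ centralizer ((centralizer (π '' T) : Subgroup _) : Set (R ⧸ N)) :=
      (closure_le _).2 fun s hs => Subgroup.mem_centralizer_iff.2 fun c hc =>
        (Subgroup.mem_centralizer_iff.1 hc s hs).symm
    rw [← MonoidHom.map_closure, hT,
      Subgroup.map_top_of_surjective π (QuotientGroup.mk'_surjective N)] at h3
    exact h3 (mem_top v)
  rw [commutator_def, commutator_le]
  intro a _ b _
  refine (QuotientGroup.eq_one_iff _).1 ?_
  show π ⁅a, b⁆ = 1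
  rw [map_commutatorElement, commutatorElement_eq_one_iff_mul_comm]
  exact Subgroup.mem_centralizer_iff.1 (h2 (π b)) (π a) (h1 (mem_top _))

theorem card_sup_zpowers_le [Finite R] (N : Subgroup R) [N.Normal] (g : R) :
    Nat.card ↥(N ⊔ zpowers g) ≤ Nat.card N * orderOf g := by
  rw [← Nat.card_zpowers, ← Nat.card_prod]
  refine Nat.card_le_card_of_surjective
    (fun q : N × zpowers g => (⟨(q.1 : R) * q.2,
      mul_mem (mem_sup_left q.1.2) (mem_sup_right q.2.2)⟩ : ↥(N ⊔ zpowers g))) ?_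
  rintro ⟨v, hv⟩
  obtain ⟨u, hu, w, hw, rfl⟩ := Subgroup.mem_sup_of_normal_left.1 hv
  exact ⟨(⟨u, hu⟩, ⟨w, hw⟩), rfl⟩

/-- A subgroup of `C(E)`, `E` an elementary plane in rank two, is at most `p ^ 2` times the number of
its `p`-th powers. -/
theorem card_le_sq_mul [Finite R] (hp2 : p ≠ 2) (hR : IsPGroup p R) (hrk : PRankLE p 2 R)
    {E : Subgroup R} (hE : IsElementaryAbelian p E) (hE2 : Nat.card E = p ^ 2) (Y : Subgroup R)
    (hY : Y ≤ centralizer (E : Set R)) :
    Nat.card Y ≤ p ^ 2 * Nat.card (Set.range fun u : Y => u ^ p) := by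
  have homega : ∀ z ∈ Y, z ^ p = 1 → z ∈ E := by
    intro z hz hzp
    have hB := CfsgLib.Base.isElementaryAbelian_sup hE (CfsgLib.Base.isElementaryAbelian_zpowers hzp)
      (Subgroup.le_centralizer_iff.1 (Subgroup.zpowers_le.2 (hY hz)))
    have h1 : E ⊔ Subgroup.zpowers z = E := (Subgroup.eq_of_le_of_card_ge le_sup_left
      (hE2 ▸ CfsgLib.Base.pRankLE_iff.1 hrk _ hB)).symm
    exact h1.le (Subgroup.mem_sup_right (Subgroup.mem_zpowers z))
  refine (CfsgLib.OddOrder.card_le_mul_card_range hp2 (hR.to_subgroup Y) (U := E.subgroupOf Y)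
    (fun z hz => Subgroup.mem_subgroupOf.2
      (homega z z.2 (by simpa using congrArg Subtype.val hz)))
    (fun e he => Subgroup.mem_center_iff.2 fun v => Subtype.ext
      (Subgroup.mem_centralizer_iff.1 (hY v.2) e (Subgroup.mem_subgroupOf.1 he)).symm)).trans ?_
  refine Nat.mul_le_mul_right _ (hE2 ▸ ?_)
  exact Nat.card_le_card_of_injective (fun e => (⟨((e : Y) : R), e.2⟩ : E))
    fun e f h => Subtype.ext (Subtype.ext (congrArg (fun u : E => (u : R)) h))

/-- In rank two, a noncyclic centre forces a metacyclic group. -/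
theorem isMetacyclic_of_center [Finite R] (hp2 : p ≠ 2) (hR : IsPGroup p R) (hrk : PRankLE p 2 R)
    (h : ¬ IsCyclic (center R)) : IsMetacyclic R := by
  obtain ⟨E, hEZ, -, hEe, hE2⟩ := CfsgLib.PLocal.exists_normal_elementary_sq hp2 hR (center R) h
  refine CfsgLib.PLocal.isMetacyclic_of_index_powerClosure hp2 hR ?_
  set W := Cfsg.powerClosure p 1 (⊤ : Subgroup R)
  have hW : Nat.card (Set.range fun u : (⊤ : Subgroup R) => u ^ p) ≤ Nat.card W :=
    Nat.card_le_card_of_injective (fun w => (⟨(w.1 : R), by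
      obtain ⟨u, hu⟩ := w.2
      exact Subgroup.subset_closure ⟨u, Subgroup.mem_top _, by rw [pow_one, ← hu]; simp⟩⟩ : W))
      fun u v huv => Subtype.ext (Subtype.ext (congrArg (fun t : W => (t : R)) huv))
  have hcount := card_le_sq_mul hp2 hR hrk hEe hE2 ⊤ fun g _ =>
    Subgroup.mem_centralizer_iff.2 fun e he => (Subgroup.mem_center_iff.1 (hEZ he) g).symm
  rw [Subgroup.card_top, ← W.card_mul_index] at hcount
  refine Nat.le_of_mul_le_mul_left (hcount.trans ?_) (Nat.card_pos (α := W))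
  rw [mul_comm (p ^ 2)]
  exact Nat.mul_le_mul_right _ hW

end CfsgLib.LocalEven.IsoSylow
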